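import Cfsg.Agent.H300.Ru.Chk_m3
set_option linter.all false
private noncomputable def lq26c7e934c8 {T : Sort _} (f :
    type_of% (@_root_.List.cons.{0} (Cfsg.Agent.H300.Ru.CI)) →
    type_of% (@_root_.Cfsg.Agent.H300.Ru.CI.diff) →
    type_of% (@_root_.Cfsg.Agent.H300.Ru.CI.and) →
    type_of% (@_root_.Cfsg.Agent.H300.Ru.CI.row) →
    type_of% (@_root_.List.cons.{0}) →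
    type_of% (@_root_.Cfsg.Agent.H300.Ru.CI.cnt) →
    type_of% (@_root_.Cfsg.Agent.H300.Ru.CI.img) →
    type_of% (@_root_.List.nil.{0}) →
    type_of% (@_root_.Cfsg.Agent.H300.Ru.CI.adj) →
    type_of% (@_root_.Cfsg.Agent.H300.Ru.CI.fix) →
    type_of% (@_root_.Cfsg.Agent.H300.Ru.CI.base) →
    type_of% (@_root_.Cfsg.Agent.H300.Ru.chk) →
    type_of% (@_root_.Cfsg.Agent.H300.Ru.full) → T) : T :=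
  f (@_root_.List.cons.{0} (Cfsg.Agent.H300.Ru.CI)) (@_root_.Cfsg.Agent.H300.Ru.CI.diff) (@_root_.Cfsg.Agent.H300.Ru.CI.and) (@_root_.Cfsg.Agent.H300.Ru.CI.row) (@_root_.List.cons.{0}) (@_root_.Cfsg.Agent.H300.Ru.CI.cnt) (@_root_.Cfsg.Agent.H300.Ru.CI.img) (@_root_.List.nil.{0}) (@_root_.Cfsg.Agent.H300.Ru.CI.adj) (@_root_.Cfsg.Agent.H300.Ru.CI.fix) (@_root_.Cfsg.Agent.H300.Ru.CI.base) (@_root_.Cfsg.Agent.H300.Ru.chk) (@_root_.Cfsg.Agent.H300.Ru.full)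

set_option autoImplicit false
set_option maxRecDepth 100000
set_option exponentiation.threshold 5000

namespace Cfsg.Agent.H300.Ru

open Cfsg.Agent.SporadicB Cfsg.Agent.SporRec.TCUpperCert Cfsg.Agent.RuD.Letters

theorem cl1 : (beta% delta% lq26c7e934c8 fun a b d e f g h i j _ l m n =>
 m (f 0<|i) 10 0 4 12
 (let c:=(let c:=(let c:=(let c:=(let c:=(a (e 2 894)<|a (b 4 0)<|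
 a (e 0 2831)<|a (d 4 0)<|i);
 (a (b 7 0)<|a (b 7 1)<|a (d 5 2)<|a (d 4 3)<|c));
 (let c:=(a (b 11 4)<|a (d 11 5)<|a (b 11 6)<|a (e 4 2727)<|c);
 (a (b 3 0)<|a (b 3 1)<|a (b 3 2)<|a (d 20 3)<|
 c)));
 (let c:=(let c:=(a (b 8 0)<|a (b 8 1)<|a (b 8 2)<|a (e 7 1864)<|c);
 (a (b 8 5)<|a (b 8 6)<|
 a (d 8 7)<|a (e 4 1802)<|c));
 (let c:=(a (b 7 1)<|a (b 7 2)<|a (b 41 3)<|a (b 18 4)<|c);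
 (a (d 7 5)<|a (d 7 6)<|a (e 11 836)<|a (b 7 0)<|c))));
 (let c:=(let c:=(let c:=(a (b 9 1)<|a (b 9 2)<|a (b 15 3)<|a (b 7 4)<|
 c);
 (a (d 8 7)<|a (d 16 8)<|a (e 4 3681)<|a (b 9 0)<|c));
 (let c:=(a (b 9 3)<|a (b 9 4)<|
 a (b 22 5)<|a (d 10 6)<|c);
 (a (e 2 2608)<|a (b 10 0)<|a (b 10 1)<|a (b 9 2)<|c)));
 (let c:=(let c:=(a (d 11 7)<|
 a (d 10 8)<|a (d 10 9)<|a (d 13 9)<|c);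
 (a (d 13 3)<|a (d 13 3)<|a (d 12 5)<|a (d 12 6)<|c));
 (a (d 19 9)<|a (b 15 10)<|
 a (b 13 11)<|a (g 7 0)<|a (g 8 1)<|a (d 13 0)<|a (d 13 1)<|c))));
 (let c:=(let c:=(let c:=(let c:=(a (b 11 5)<|a (b 10 6)<|a (b 10 7)<|a (b 9 8)<|c);
 (a (b 12 1)<|
 a (b 11 2)<|a (b 11 3)<|a (b 11 4)<|c));
 (let c:=(a (d 15 10)<|a (b 14 11)<|a (e 13 2347)<|a (b 12 0)<|c);
 (a (b 16 6)<|a (d 16 7)<|a (b 15 8)<|a (b 15 9)<|c)));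
 (let c:=(let c:=(a (d 6 2)<|a (b 7 3)<|a (b 22 4)<|a (b 18 5)<|
 c);
 (a (h 0 25)<|a (e 1 25)<|a (b 15 0)<|a (b 13 1)<|c));
 (let c:=(a (d 19 11)<|a (d 20 14)<|a (d 19 7)<|
 a (l 5 25 52)<|c);
 (a (d 12 6)<|a (d 11 2)<|a (d 19 9)<|a (d 20 9)<|c))));
 (let c:=(let c:=(let c:=(a (d 10 0)<|a (d 11 3)<|
 a (g 9 148)<|a (d 11 6)<|c);
 (a (g 3 164)<|a (g 4 172)<|a (d 10 0)<|a (g 6 188)<|c));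
 (let c:=(a (d 8 6)<|
 a (b 9 7)<|a (g 1 156)<|a (d 7 0)<|c);
 (a (d 3 2)<|a (b 4 3)<|a (d 8 4)<|a (b 9 5)<|c)));
 (let c:=(let c:=(a (b 9 3)<|a (e 6 2553)<|a (d 3 0)<|a (b 4 1)<|c);
 (a (e 3 2)<|a (d 1 0)<|a (b 2 1)<|
 a (d 8 2)<|c));
 (f (j 1)<|f (d 1 0)<|f (b 2 1)<|f (l 0 2 2240)<|f (b 1 0)<|f (h 1 2)<|f (b 1 0)<|c)))))
 (f n<|i) 116480 :
 Bool) = true := by decide +kernel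

theorem cl2 : (beta% delta% lq26c7e934c8 fun a b d e f g h i j k l m n =>
 m (f 2<|i) 90 2 0 8
 (let c:=(let c:=(let c:=(let c:=(a (d 4 3)<|a (e 3 1262)<|a (b 56 0)<|a (d 3 1)<|a (d 3 2)<|a (e 2 921)<|a (b 2 0)<|i);
 (a (b 5 2)<|a (b 5 3)<|a (e 2 2517)<|
 a (b 4 0)<|a (b 10 1)<|a (d 4 2)<|c));
 (let c:=(a (b 7 1)<|a (d 6 2)<|a (b 6 3)<|a (e 0 1225)<|a (b 10 0)<|a (b 26 1)<|c);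
 (a (d 7 2)<|a (d 6 4)<|a (d 8 5)<|a (d 7 5)<|a (e 1 3269)<|a (b 1 0)<|
 c)));
 (let c:=(let c:=(a (d 6 3)<|a (b 6 4)<|a (d 6 5)<|
 a (g 32 0)<|a (g 33 1)<|a (d 7 0)<|a (d 7 1)<|c);
 (a (d 11 5)<|a (d 9 6)<|a (e 11 4050)<|a (b 7 0)<|a (b 7 1)<|a (b 6 2)<|c));
 (let c:=(a (e 4 3966)<|a (b 9 0)<|a (b 9 1)<|a (b 9 2)<|a (b 5 3)<|
 a (d 5 4)<|c);
 (a (d 10 3)<|
 a (d 9 4)<|a (d 9 5)<|a (d 8 6)<|a (b 9 7)<|a (b 9 8)<|c))));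
 (let c:=(let c:=(let c:=(a (b 14 6)<|a (d 14 7)<|a (d 9 8)<|a (e 11 2463)<|a (b 9 0)<|a (b 7 1)<|a (b 5 2)<|c);
 (a (b 13 0)<|a (b 20 1)<|a (d 7 2)<|a (b 8 3)<|
 a (d 13 4)<|a (d 13 5)<|c));
 (let c:=(a (d 9 5)<|
 a (l 1 85 120)<|a (b 2 0)<|a (h 1 85)<|a (b 1 0)<|a (e 3 85)<|c);
 (a (g 6 4)<|a (g 7 2)<|a (d 4 2)<|a (d 7 3)<|a (d 8 3)<|a (d 8 3)<|c)));
 (let c:=(let c:=(a (e 7 1720)<|a (d 4 0)<|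
 a (d 6 1)<|a (b 7 2)<|a (b 6 3)<|a (g 5 0)<|c);
 (a (e 3 0)<|a (d 1 0)<|a (b 2 1)<|a (d 10 2)<|a (d 8 3)<|a (b 9 4)<|c));
 (let c:=(a (g 4 91)<|a (d 5 0)<|a (l 2 0 2048)<|a (b 3 0)<|
 a (h 1 0)<|a (b 1 0)<|c);
 (f (k 1)<|f (d 1 0)<|f (b 2 1)<|f (j 1)<|f (d 1 0)<|f (b 2 1)<|c)))))
 (f n<|i) 245760 :
 Bool) = true := by decide +kernel

theorem cl3 : (beta% delta% lq26c7e934c8 fun a b d e f g h i j k l m n =>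
 m (f 8<|i) 2 6 0 10
 (let c:=(let c:=(let c:=(let c:=(let c:=(a (e 3 2876)<|a (b 3 0)<|a (d 2 1)<|a (e 1 466)<|a (b 10 0)<|i);
 (a (b 4 0)<|a (b 11 1)<|a (b 8 2)<|a (b 6 3)<|
 c));
 (let c:=(a (d 3 1)<|a (d 6 2)<|a (d 6 3)<|a (e 10 1770)<|c);
 (a (b 7 6)<|a (b 10 7)<|
 a (e 7 1301)<|a (b 7 0)<|c)));
 (let c:=(let c:=(a (b 9 2)<|a (b 9 3)<|a (d 8 4)<|a (d 7 5)<|c);
 (a (b 9 8)<|a (e 4 1766)<|a (b 9 0)<|a (b 9 1)<|c));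
 (let c:=(a (b 10 4)<|a (b 9 5)<|a (d 9 6)<|a (b 12 7)<|
 c);
 (a (b 72 0)<|a (b 9 1)<|a (b 19 2)<|a (b 10 3)<|c))));
 (let c:=(let c:=(let c:=(a (b 9 4)<|a (b 8 5)<|a (b 7 6)<|a (d 11 7)<|
 a (e 1 319)<|c);
 (a (b 9 0)<|a (b 8 1)<|a (b 8 2)<|a (d 8 3)<|c));
 (let c:=(a (b 9 6)<|a (b 9 7)<|
 a (b 9 8)<|a (e 1 3115)<|c);
 (a (b 9 2)<|a (b 9 3)<|a (b 9 4)<|a (d 9 5)<|c)));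
 (let c:=(let c:=(a (b 19 8)<|a (e 10 2404)<|a (b 9 0)<|a (b 9 1)<|c);
 (a (b 11 4)<|a (b 10 5)<|a (b 24 6)<|a (b 24 7)<|
 c));
 (let c:=(a (b 12 0)<|a (b 33 1)<|a (b 12 2)<|a (b 12 3)<|c);
 (a (b 4 0)<|a (h 1 1874)<|a (b 4 0)<|
 a (e 2 3918)<|c)))));
 (let c:=(let c:=(let c:=(let c:=(a (d 12 5)<|a (d 12 8)<|a (d 12 7)<|a (d 13 7)<|a (l 3 1874 2)<|c);
 (a (d 11 0)<|a (d 11 1)<|a (d 12 4)<|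
 a (d 12 3)<|c));
 (let c:=(a (g 26 2)<|a (g 27 1)<|a (g 28 5)<|a (g 29 3)<|c);
 (a (b 13 4)<|
 a (b 10 5)<|a (b 10 6)<|a (d 9 7)<|c)));
 (let c:=(let c:=(a (b 8 0)<|a (b 7 1)<|a (b 5 2)<|a (b 4 3)<|c);
 (a (b 10 6)<|a (d 10 7)<|a (b 10 8)<|a (e 20 1745)<|c));
 (let c:=(a (b 8 2)<|a (b 8 3)<|a (d 5 4)<|a (d 9 5)<|
 c);
 (a (b 16 7)<|a (e 12 2740)<|a (d 7 0)<|a (b 8 1)<|c))));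
 (let c:=(let c:=(let c:=(a (b 18 3)<|a (d 17 4)<|
 a (d 16 5)<|a (d 15 6)<|c);
 (a (e 5 2)<|a (b 23 0)<|a (b 2 1)<|a (b 19 2)<|c));
 (let c:=(a (h 1 2)<|
 a (b 1 0)<|a (h 1 2740)<|a (b 1 0)<|c);
 (a (g 14 5)<|a (d 12 0)<|a (l 0 2 1080)<|a (b 1 0)<|c)));
 (let c:=(let c:=(a (g 10 1)<|a (d 8 0)<|a (g 12 6)<|a (d 10 0)<|c);
 (a (g 6 3)<|a (d 3 0)<|a (g 8 8)<|
 a (d 5 0)<|c));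
 (let c:=(a (d 1 0)<|a (b 2 1)<|a (g 4 0)<|a (d 1 0)<|c);
 (f (k 1)<|f (d 1 0)<|f (b 2 1)<|f (j 1)<|c))))))
 (f n<|i) 2160 :
 Bool) = true := by decide +kernel

theorem cl4 : (beta% delta% lq26c7e934c8 fun a b d e f g h i j k l m n =>
 m (f 7<|f 8<|f 5<|f 0<|f 3<|f 6<|i) 3 0 10 11
 (let c:=(let c:=(let c:=(let c:=(let c:=(a (b 3 0)<|a (b 2 1)<|a (b 9 2)<|a (e 2 3933)<|a (b 1 0)<|i);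
 (a (b 20 0)<|a (b 6 1)<|a (b 17 2)<|a (e 1 1653)<|c));
 (let c:=(a (b 5 1)<|a (d 13 2)<|a (d 4 3)<|a (b 6 4)<|a (e 3 3415)<|
 c);
 (a (d 5 3)<|a (b 5 4)<|a (e 2 1028)<|a (b 5 0)<|c)));
 (let c:=(let c:=(a (d 9 8)<|a (e 8 2659)<|a (b 7 0)<|a (b 7 1)<|
 a (b 6 2)<|c);
 (a (d 10 4)<|a (b 10 5)<|a (d 9 6)<|a (b 9 7)<|c));
 (let c:=(a (e 3 2098)<|a (b 88 0)<|a (b 10 1)<|
 a (b 10 2)<|a (b 10 3)<|c);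
 (a (b 10 5)<|a (b 9 6)<|a (b 8 7)<|a (d 12 8)<|c))));
 (let c:=(let c:=(let c:=(a (b 10 0)<|a (b 10 1)<|a (b 10 2)<|
 a (b 10 3)<|a (b 10 4)<|c);
 (a (b 10 7)<|a (b 9 8)<|a (b 16 9)<|a (e 1 2456)<|c));
 (let c:=(a (b 12 2)<|a (b 11 3)<|a (b 10 4)<|
 a (b 10 5)<|a (d 10 6)<|c);
 (a (d 17 11)<|a (e 1 642)<|a (b 12 0)<|a (b 12 1)<|c)));
 (let c:=(let c:=(a (d 25 8)<|a (d 11 9)<|a (d 11 10)<|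
 a (d 17 11)<|a (d 17 6)<|c);
 (a (d 12 4)<|a (g 8 4)<|a (d 13 4)<|a (d 26 6)<|c));
 (let c:=(a (g 2 1)<|a (g 3 3)<|
 a (g 4 2)<|a (d 46 0)<|a (d 12 3)<|c);
 (a (d 11 6)<|a (d 10 8)<|a (d 12 7)<|a (d 11 8)<|c)))));
 (let c:=(let c:=(let c:=(let c:=(a (d 12 0)<|
 a (d 12 1)<|a (d 12 4)<|a (d 11 3)<|a (d 10 6)<|c);
 (a (d 10 9)<|a (g 39 0)<|a (g 40 2)<|a (g 41 1)<|c));
 (let c:=(a (b 8 4)<|a (b 8 5)<|a (b 8 6)<|a (d 17 7)<|a (b 15 8)<|c);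
 (a (b 9 0)<|a (b 9 1)<|a (b 8 2)<|a (b 8 3)<|
 c)));
 (let c:=(let c:=(a (b 15 6)<|a (b 14 7)<|a (b 13 8)<|a (d 12 9)<|a (e 33 3695)<|c);
 (a (b 8 2)<|a (d 7 3)<|a (b 6 4)<|a (b 6 5)<|
 c));
 (let c:=(a (b 13 9)<|a (b 12 10)<|a (e 24 726)<|a (d 11 0)<|a (b 9 1)<|c);
 (a (b 6 5)<|a (d 14 6)<|a (b 15 7)<|a (d 12 8)<|
 c))));
 (let c:=(let c:=(let c:=(a (b 7 0)<|a (b 6 1)<|a (d 5 2)<|a (b 6 3)<|a (d 5 4)<|c);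
 (a (b 16 5)<|a (d 15 6)<|a (b 16 7)<|
 a (e 14 737)<|c));
 (let c:=(a (d 1 0)<|a (b 2 1)<|a (b 22 2)<|a (b 20 3)<|a (d 15 4)<|c);
 (a (b 1 0)<|a (h 1 726)<|
 a (b 1 0)<|a (e 7 1)<|c)));
 (let c:=(let c:=(a (l 1 1 1024)<|a (b 2 0)<|a (h 1 1)<|a (b 1 0)<|a (h 1 737)<|c);
 (a (j 2)<|a (d 1 0)<|
 a (b 2 1)<|a (d 4 2)<|c));
 (let c:=(a (d 1 0)<|a (b 2 1)<|a (j 1)<|a (d 1 0)<|a (b 2 1)<|c);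
 (f (k 1)<|f (d 1 0)<|f (b 2 1)<|f (k 2)<|c))))))
 (f n<|i) 1024 :
 Bool) = true := by decide +kernel

theorem cl5 : (beta% delta% lq26c7e934c8 fun a b d e f g h i j k l m n =>
 m (f 1<|f 0<|i) 123 0 17 46
 (let c:=(let c:=(let c:=(let c:=(let c:=(a (e 0 2588)<|a (b 11 0)<|a (b 6 1)<|a (e 1 655)<|a (d 1 0)<|i);
 (a (b 13 2)<|a (e 2 2942)<|a (b 6 0)<|
 a (e 3 3334)<|a (b 1 0)<|c));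
 (let c:=(a (b 5 1)<|a (b 5 2)<|a (e 0 2357)<|a (b 14 0)<|a (b 86 1)<|c);
 (a (b 5 2)<|a (d 4 3)<|a (e 1 3190)<|
 a (b 17 0)<|c)));
 (let c:=(let c:=(a (b 12 3)<|a (d 5 4)<|a (e 7 2050)<|a (b 11 0)<|a (b 5 1)<|c);
 (a (d 8 6)<|a (e 6 840)<|a (b 30 0)<|a (b 5 1)<|
 a (b 5 2)<|c));
 (let c:=(a (b 9 1)<|a (b 9 2)<|a (b 9 3)<|a (b 9 4)<|a (b 8 5)<|c);
 (a (b 10 7)<|a (b 10 8)<|a (e 3 1758)<|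
 a (b 9 0)<|c))));
 (let c:=(let c:=(let c:=(a (b 11 2)<|a (b 11 3)<|a (b 11 4)<|a (b 11 5)<|a (b 11 6)<|c);
 (a (d 15 12)<|a (d 14 12)<|a (e 3 2873)<|a (b 11 0)<|
 a (b 11 1)<|c));
 (let c:=(a (d 31 5)<|a (d 31 8)<|a (d 41 7)<|a (d 30 9)<|a (d 24 9)<|c);
 (a (d 43 3)<|a (d 6 4)<|a (d 21 3)<|a (d 14 4)<|
 c)));
 (let c:=(let c:=(a (d 4 2)<|a (g 6 0)<|a (g 7 2)<|a (g 8 1)<|a (d 55 2)<|c);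
 (a (g 48 0)<|a (g 49 2)<|a (d 5 0)<|
 a (d 6 2)<|c));
 (let c:=(a (g 26 0)<|a (d 7 0)<|a (d 6 2)<|a (d 4 2)<|a (d 7 3)<|c);
 (a (d 7 3)<|a (b 7 4)<|
 a (b 6 5)<|a (g 25 1)<|c)))));
 (let c:=(let c:=(let c:=(let c:=(a (d 9 8)<|a (e 38 975)<|a (b 9 0)<|a (b 9 1)<|a (b 9 2)<|c);
 (a (b 9 3)<|a (b 9 4)<|
 a (d 16 5)<|a (d 9 6)<|a (b 9 7)<|c));
 (let c:=(a (d 13 11)<|a (e 30 1787)<|a (b 10 0)<|a (b 9 1)<|a (b 9 2)<|c);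
 (a (b 8 7)<|a (b 19 8)<|
 a (d 14 9)<|a (d 14 10)<|c)));
 (let c:=(let c:=(a (b 11 2)<|a (b 11 3)<|a (b 11 4)<|a (b 11 5)<|a (b 9 6)<|c);
 (a (d 23 11)<|a (b 22 12)<|a (e 19 3305)<|
 a (b 10 0)<|a (d 10 1)<|c));
 (let c:=(a (b 19 6)<|a (b 16 7)<|a (d 26 8)<|a (d 23 9)<|a (b 24 10)<|c);
 (a (d 26 2)<|a (b 27 3)<|a (b 5 4)<|
 a (b 30 5)<|c))));
 (let c:=(let c:=(let c:=(a (h 1 1787)<|a (b 1 0)<|a (e 7 0)<|a (d 33 0)<|a (b 34 1)<|c);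
 (a (b 8 0)<|a (h 1 0)<|a (b 1 0)<|a (h 1 3305)<|
 a (b 1 0)<|c));
 (let c:=(a (d 8 4)<|a (g 21 8)<|a (d 10 0)<|a (d 11 9)<|a (l 7 0 512)<|c);
 (a (d 3 0)<|a (g 17 0)<|a (d 7 0)<|a (d 8 5)<|
 c)));
 (let c:=(let c:=(a (d 5 1)<|a (b 6 2)<|a (g 13 4)<|a (d 1 0)<|a (g 15 2)<|c);
 (a (d 4 2)<|a (b 5 3)<|
 a (j 2)<|a (d 3 0)<|c));
 (let c:=(a (d 1 0)<|a (b 2 1)<|a (j 1)<|a (d 1 0)<|a (b 2 1)<|c);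
 (f (k 1)<|f (d 1 0)<|f (b 2 1)<|f (k 2)<|c))))))
 (f n<|i) 512 :
 Bool) = true := by decide +kernel

theorem cl6 : (beta% delta% lq26c7e934c8 fun a b d e f g h i j k l m n =>
 m (f 1<|i) 97 3 0 2
 (let c:=(let c:=(let c:=(let c:=(let c:=(a (d 3 1)<|
 a (b 3 2)<|a (e 2 701)<|a (b 7 0)<|i);
 (a (d 4 3)<|a (d 6 4)<|a (e 3 1091)<|a (b 5 0)<|c));
 (a (b 7 3)<|a (d 7 4)<|
 a (b 6 5)<|a (e 3 3946)<|a (b 6 0)<|a (b 6 1)<|a (d 5 2)<|c));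
 (let c:=(let c:=(a (e 1 1740)<|a (b 6 0)<|a (b 15 1)<|a (b 7 2)<|c);
 (a (b 6 2)<|a (b 6 3)<|a (b 6 4)<|a (b 10 5)<|c));
 (a (b 8 4)<|a (b 22 5)<|a (b 13 6)<|a (b 9 7)<|a (e 0 1975)<|a (b 8 0)<|a (b 7 1)<|
 c)));
 (let c:=(let c:=(let c:=(a (b 9 0)<|
 a (b 9 1)<|a (b 8 2)<|a (d 8 3)<|c);
 (a (d 12 8)<|a (d 12 7)<|a (l 1 1307 3)<|a (e 0 1307)<|c));
 (a (g 41 6)<|a (d 18 1)<|a (d 29 4)<|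
 a (d 19 3)<|a (d 36 6)<|a (d 12 5)<|a (d 9 7)<|c));
 (let c:=(a (d 7 4)<|a (d 6 3)<|a (d 8 4)<|a (d 9 6)<|a (g 38 0)<|a (g 39 2)<|a (g 40 4)<|c);
 (a (d 8 4)<|a (b 6 5)<|a (g 24 0)<|a (g 25 4)<|a (g 26 6)<|a (g 27 2)<|a (d 7 0)<|
 c))));
 (let c:=(let c:=(let c:=(let c:=(a (b 5 0)<|
 a (b 4 1)<|a (b 4 2)<|a (b 9 3)<|c);
 (a (b 4 3)<|a (b 10 4)<|a (d 9 5)<|a (e 27 2345)<|c));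
 (a (b 14 5)<|a (b 12 6)<|a (b 10 7)<|
 a (e 22 1787)<|a (d 8 0)<|a (b 6 1)<|a (d 5 2)<|c));
 (let c:=(let c:=(a (d 6 1)<|a (d 6 2)<|a (b 4 3)<|a (d 13 4)<|c);
 (a (b 22 7)<|a (b 19 8)<|
 a (e 15 3554)<|a (b 8 0)<|c));
 (a (d 1 0)<|a (b 2 1)<|a (d 29 2)<|a (d 16 3)<|a (b 17 4)<|a (b 26 5)<|a (d 15 6)<|c)));
 (let c:=(let c:=(let c:=(a (b 1 0)<|a (h 1 1787)<|a (b 1 0)<|a (e 7 0)<|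
 c);
 (a (b 9 0)<|a (h 1 0)<|a (b 1 0)<|a (h 1 3554)<|c));
 (a (g 12 4)<|a (d 10 0)<|a (g 14 12)<|a (d 6 0)<|a (g 16 8)<|a (d 8 0)<|
 a (l 8 0 1280)<|c));
 (let c:=(a (d 1 0)<|a (b 2 1)<|a (j 2)<|a (d 1 0)<|
 a (b 2 1)<|a (g 10 20)<|a (d 8 0)<|c);
 (f (k 1)<|f (d 1 0)<|f (b 2 1)<|f (k 2)<|f (d 1 0)<|f (b 2 1)<|f (j 1)<|c)))))
 (f n<|i) 3840 :
 Bool) = true := by decide +kernel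

theorem cl7 : (beta% delta% lq26c7e934c8 fun a b d e f g h i j k l m n =>
 m (f 3<|f 5<|f 6<|f 7<|f 1<|f 1<|i) 2 12 0 3
 (let c:=(let c:=(let c:=(let c:=(let c:=(a (b 3 0)<|a (d 2 1)<|a (b 4 2)<|a (e 13 2518)<|a (d 3 0)<|i);
 (a (b 5 1)<|a (d 5 2)<|a (b 4 3)<|
 a (e 3 1538)<|c));
 (let c:=(a (d 9 5)<|a (d 7 6)<|a (e 6 1278)<|a (b 6 0)<|c);
 (a (b 16 1)<|
 a (b 7 2)<|a (d 6 3)<|a (d 6 4)<|c)));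
 (let c:=(let c:=(a (b 5 4)<|a (d 7 5)<|a (e 5 3209)<|a (b 25 0)<|c);
 (a (b 7 0)<|a (b 7 1)<|a (d 7 2)<|a (b 6 3)<|c));
 (let c:=(a (b 11 5)<|a (d 10 6)<|a (b 10 7)<|
 a (e 3 10)<|c);
 (a (b 8 1)<|a (b 7 2)<|a (b 5 3)<|a (b 15 4)<|c))));
 (let c:=(let c:=(let c:=(a (b 12 7)<|a (b 11 8)<|
 a (e 0 1226)<|a (b 8 0)<|c);
 (a (d 13 3)<|a (b 28 4)<|a (d 14 5)<|a (d 13 6)<|c));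
 (let c:=(a (e 3 810)<|
 a (b 14 0)<|a (b 14 1)<|a (b 13 2)<|c);
 (a (l 3 810 6)<|a (b 4 0)<|a (h 1 810)<|a (b 4 0)<|c)));
 (let c:=(let c:=(a (d 12 6)<|a (d 12 8)<|a (d 12 8)<|a (d 17 10)<|c);
 (a (g 41 4)<|a (d 14 0)<|a (d 14 1)<|a (d 7 6)<|
 c));
 (let c:=(a (g 37 2)<|a (g 38 0)<|a (d 38 0)<|a (d 29 1)<|c);
 (a (b 12 6)<|a (b 9 7)<|
 a (g 27 4)<|a (d 4 0)<|c)))));
 (let c:=(let c:=(let c:=(let c:=(a (b 7 2)<|a (d 7 3)<|a (b 7 4)<|a (b 6 5)<|c);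
 (a (b 9 7)<|a (e 30 2428)<|a (b 8 0)<|a (b 8 1)<|c));
 (let c:=(a (b 6 3)<|a (b 5 4)<|a (b 13 5)<|a (d 11 6)<|
 c);
 (a (e 23 1080)<|a (b 6 0)<|a (b 5 1)<|a (d 5 2)<|c)));
 (let c:=(let c:=(a (b 8 4)<|a (b 7 5)<|a (d 11 6)<|
 a (b 10 7)<|c);
 (a (d 10 0)<|a (b 8 1)<|a (b 8 2)<|a (d 7 3)<|c));
 (let c:=(a (d 22 7)<|a (b 23 8)<|
 a (b 20 9)<|a (e 16 2818)<|c);
 (a (b 27 3)<|a (b 25 4)<|a (d 23 5)<|a (b 24 6)<|c))));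
 (let c:=(let c:=(let c:=(a (e 7 2)<|
 a (b 1 0)<|a (d 10 1)<|a (b 11 2)<|c);
 (a (h 1 2818)<|a (b 1 0)<|a (h 1 1080)<|a (b 1 0)<|c));
 (let c:=(a (l 4 2 1280)<|a (b 5 0)<|a (h 1 2)<|a (b 1 0)<|c);
 (a (g 14 31)<|a (d 15 0)<|a (g 16 15)<|a (d 17 0)<|
 c)));
 (let c:=(let c:=(a (g 10 16)<|a (d 1 0)<|a (g 12 12)<|a (d 3 0)<|c);
 (a (b 2 1)<|a (j 2)<|a (d 1 0)<|
 a (b 2 1)<|c));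
 (let c:=(a (d 1 0)<|a (b 2 1)<|a (j 1)<|a (d 1 0)<|c);
 (f (k 1)<|f (d 1 0)<|f (b 2 1)<|f (k 2)<|c))))))
 (f n<|i) 7680 :
 Bool) = true := by decide +kernel

theorem cl8 : (beta% delta% lq26c7e934c8 fun a b d e f g h i j _ l m n =>
 m (f 2<|f 3<|f 6<|i) 9 4 7 0
 (let c:=(let c:=(let c:=(let c:=(let c:=(a (b 3 1)<|a (e 1 2957)<|a (b 9 0)<|
 a (e 0 3907)<|a (b 9 0)<|i);
 (a (b 6 4)<|a (b 6 5)<|a (e 4 2499)<|a (b 12 0)<|c));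
 (let c:=(a (e 8 2414)<|a (b 4 0)<|a (b 4 1)<|
 a (d 22 2)<|a (d 20 3)<|c);
 (a (b 29 1)<|a (b 4 2)<|a (d 16 3)<|a (d 5 4)<|c)));
 (let c:=(let c:=(a (b 12 1)<|a (b 12 2)<|a (d 10 3)<|
 a (e 3 390)<|a (b 18 0)<|c);
 (a (h 0 926)<|a (b 44 0)<|a (e 0 2956)<|a (b 12 0)<|c));
 (let c:=(a (b 10 6)<|a (b 10 7)<|a (h 14 308)<|
 a (h 0 3460)<|a (h 0 713)<|c);
 (a (b 9 2)<|a (b 8 3)<|a (b 6 4)<|a (b 6 5)<|c))));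
 (let c:=(let c:=(let c:=(a (b 12 8)<|a (b 10 9)<|a (e 5 308)<|
 a (b 10 0)<|a (b 9 1)<|c);
 (a (b 22 4)<|a (b 11 5)<|a (d 11 6)<|a (d 9 7)<|c));
 (let c:=(a (e 2 2364)<|a (b 10 0)<|a (b 10 1)<|
 a (b 10 2)<|a (b 10 3)<|c);
 (a (d 9 7)<|a (d 22 7)<|a (d 16 8)<|a (d 14 9)<|c)));
 (let c:=(let c:=(a (d 13 1)<|a (d 13 4)<|
 a (d 12 5)<|a (d 10 6)<|a (d 9 7)<|c);
 (a (g 7 1)<|a (g 8 2)<|a (g 9 0)<|a (d 13 0)<|c));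
 (let c:=(a (b 10 7)<|a (d 10 8)<|a (b 18 9)<|a (b 15 10)<|c);
 (a (b 11 3)<|a (b 11 4)<|a (d 11 5)<|a (b 10 6)<|
 c)))));
 (let c:=(let c:=(let c:=(let c:=(a (d 13 11)<|a (e 49 1924)<|a (b 12 0)<|a (b 12 1)<|a (b 12 2)<|c);
 (a (d 12 7)<|a (b 12 8)<|a (b 12 9)<|a (b 11 10)<|
 c));
 (let c:=(a (b 12 2)<|a (d 12 3)<|a (b 12 4)<|a (b 12 5)<|a (b 12 6)<|c);
 (a (b 13 11)<|a (e 38 165)<|a (b 12 0)<|a (b 12 1)<|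
 c)));
 (let c:=(let c:=(a (b 17 6)<|a (b 16 7)<|a (b 15 8)<|a (b 15 9)<|a (d 14 10)<|c);
 (a (b 7 2)<|a (b 6 3)<|a (b 5 4)<|a (b 17 5)<|
 c));
 (let c:=(a (b 13 11)<|a (e 27 1964)<|a (b 10 0)<|a (b 9 1)<|c);
 (a (b 15 7)<|a (d 14 8)<|a (b 15 9)<|
 a (d 14 10)<|c))));
 (let c:=(let c:=(let c:=(a (b 7 2)<|a (d 6 3)<|a (b 7 4)<|a (d 6 5)<|a (d 14 6)<|c);
 (a (b 8 7)<|a (e 16 2644)<|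
 a (d 7 0)<|a (d 6 1)<|c));
 (let c:=(a (d 13 2)<|a (b 14 3)<|a (d 18 4)<|a (b 19 5)<|a (d 7 6)<|c);
 (a (b 1 0)<|a (e 9 17)<|
 a (d 13 0)<|a (b 14 1)<|c)));
 (let c:=(let c:=(a (h 1 2644)<|a (b 1 0)<|a (h 1 1964)<|a (b 1 0)<|a (h 1 165)<|c);
 (a (l 1 17 300)<|a (b 2 0)<|
 a (h 1 17)<|a (b 1 0)<|c));
 (let c:=(a (d 1 0)<|a (b 2 1)<|a (d 4 2)<|a (b 5 3)<|c);
 (f (j 1)<|f (d 1 0)<|f (b 2 1)<|f (j 2)<|c))))))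
 (f n<|i) 300 :
 Bool) = true := by decide +kernel

theorem cl9 : (beta% delta% lq26c7e934c8 fun a b d e f g h i j k l m n =>
 m (f 8<|f 0<|f 5<|i) 0 2 15 7
 (let c:=(let c:=(let c:=(let c:=(let c:=(a (b 6 1)<|
 a (e 1 3271)<|a (d 11 0)<|a (e 2 79)<|a (b 29 0)<|i);
 (a (e 2 2007)<|a (b 10 0)<|a (b 2 1)<|a (e 1 1178)<|a (b 12 0)<|c));
 (let c:=(a (b 7 6)<|a (e 6 772)<|
 a (b 4 0)<|a (b 4 1)<|a (d 12 2)<|c);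
 (a (b 17 1)<|a (b 17 2)<|a (b 7 3)<|a (b 7 4)<|a (b 15 5)<|c)));
 (let c:=(let c:=(a (b 8 2)<|a (b 5 3)<|a (b 5 4)<|
 a (e 10 2566)<|a (b 5 0)<|c);
 (a (b 10 8)<|a (d 10 9)<|a (e 7 1800)<|a (b 23 0)<|a (b 8 1)<|c));
 (let c:=(a (b 11 3)<|a (b 11 4)<|a (b 11 5)<|a (d 10 6)<|
 a (d 10 7)<|c);
 (a (e 4 619)<|a (b 11 0)<|a (b 11 1)<|a (b 11 2)<|c))));
 (let c:=(let c:=(let c:=(a (b 33 7)<|a (b 18 8)<|a (b 13 9)<|a (b 13 10)<|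
 a (b 12 11)<|c);
 (a (b 10 2)<|a (b 38 3)<|a (b 11 4)<|a (b 11 5)<|a (b 11 6)<|c));
 (let c:=(a (b 11 6)<|a (d 10 7)<|a (e 1 3891)<|a (b 23 0)<|a (b 23 1)<|
 c);
 (a (b 9 2)<|a (b 9 3)<|a (d 8 4)<|a (d 7 5)<|c)));
 (let c:=(let c:=(a (d 18 7)<|a (d 16 9)<|a (e 7 868)<|a (b 12 0)<|a (b 10 1)<|
 c);
 (a (d 15 2)<|
 a (d 15 3)<|a (d 14 10)<|a (d 14 5)<|a (d 21 12)<|c));
 (let c:=(a (d 14 3)<|a (g 57 0)<|a (g 58 2)<|a (d 14 0)<|a (d 60 7)<|c);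
 (a (g 52 3)<|a (g 53 1)<|a (d 53 1)<|a (d 14 1)<|c)))));
 (let c:=(let c:=(let c:=(let c:=(a (d 11 7)<|a (b 10 8)<|a (b 10 9)<|a (d 18 10)<|a (b 14 11)<|
 c);
 (a (b 11 2)<|
 a (d 10 3)<|a (b 11 4)<|a (b 11 5)<|a (b 11 6)<|c));
 (let c:=(a (b 15 9)<|a (b 13 10)<|a (e 43 150)<|a (b 11 0)<|a (b 11 1)<|c);
 (a (b 10 5)<|
 a (b 10 6)<|a (b 9 7)<|a (d 9 8)<|c)));
 (let c:=(let c:=(a (b 10 0)<|a (b 10 1)<|a (b 10 2)<|a (d 10 3)<|a (b 11 4)<|c);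
 (a (b 14 6)<|a (d 9 7)<|
 a (b 10 8)<|a (b 10 9)<|a (e 33 3211)<|c));
 (let c:=(a (b 7 1)<|a (b 7 2)<|a (b 7 3)<|a (d 7 4)<|a (b 8 5)<|c);
 (a (d 10 6)<|
 a (d 9 7)<|a (e 24 2071)<|a (b 7 0)<|c))));
 (let c:=(let c:=(let c:=(a (b 6 1)<|a (b 5 2)<|a (b 4 3)<|a (b 13 4)<|a (b 11 5)<|c);
 (a (b 20 6)<|a (d 19 7)<|
 a (b 20 8)<|a (e 17 1865)<|a (d 5 0)<|c));
 (let c:=(a (d 21 1)<|a (b 22 2)<|a (d 4 3)<|a (b 5 4)<|a (d 19 5)<|c);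
 (a (h 1 3211)<|
 a (b 1 0)<|a (e 9 3)<|a (d 13 0)<|c)));
 (let c:=(let c:=(a (b 1 0)<|a (h 1 1865)<|a (b 1 0)<|a (h 1 2071)<|a (b 1 0)<|c);
 (a (d 4 2)<|a (b 5 3)<|
 a (l 0 3 1000)<|a (b 1 0)<|a (h 1 3)<|c));
 (let c:=(a (d 1 0)<|a (b 2 1)<|a (j 2)<|a (d 1 0)<|a (b 2 1)<|c);
 (f (k 1)<|f (d 1 0)<|f (b 2 1)<|f (j 1)<|c))))))
 (f n<|i) 1000 :
 Bool) = true := by decide +kernel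

theorem cl10 : (beta% delta% lq26c7e934c8 fun a b d e f g h i j k l m n =>
 m (f 2<|f 4<|i) 2 4 0 9
 (let c:=(let c:=(let c:=(let c:=(a (e 8 2011)<|a (b 4 0)<|a (b 9 1)<|a (d 4 2)<|a (d 4 3)<|a (e 3 2446)<|
 a (b 2 0)<|i);
 (a (d 5 4)<|a (d 8 5)<|a (e 4 1301)<|
 a (b 6 0)<|a (d 12 1)<|a (d 4 2)<|a (d 4 3)<|c));
 (let c:=(a (b 5 4)<|
 a (b 10 5)<|a (e 4 1513)<|a (b 6 0)<|a (b 15 1)<|a (b 15 2)<|a (b 5 3)<|c);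
 (a (b 9 6)<|a (b 9 7)<|a (e 44 2243)<|a (b 8 0)<|a (b 5 1)<|a (d 5 2)<|a (d 5 3)<|c)));
 (let c:=(let c:=(a (e 3 3746)<|a (b 6 0)<|a (b 24 1)<|a (b 16 2)<|a (d 8 3)<|
 a (b 16 4)<|a (b 6 5)<|c);
 (a (e 29 2597)<|a (b 8 0)<|
 a (b 7 1)<|a (b 6 2)<|a (d 6 3)<|a (d 6 4)<|a (b 6 5)<|c));
 (let c:=(a (b 7 1)<|a (b 7 2)<|a (b 7 3)<|a (b 7 4)<|a (b 6 5)<|a (b 15 6)<|a (d 9 7)<|c);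
 (a (b 7 5)<|a (b 7 6)<|a (d 12 7)<|a (b 12 8)<|a (e 21 3722)<|
 a (b 8 0)<|c))));
 (let c:=(let c:=(let c:=(a (b 13 7)<|a (e 12 1295)<|a (d 8 0)<|
 a (b 9 1)<|a (b 9 2)<|a (b 9 3)<|a (b 7 4)<|c);
 (a (b 12 0)<|
 a (b 36 1)<|a (b 13 2)<|a (d 13 3)<|a (d 12 4)<|a (b 12 5)<|a (b 15 6)<|c));
 (let c:=(a (d 11 9)<|a (l 8 160 48)<|a (h 0 160)<|a (h 0 1295)<|a (h 0 3722)<|a (h 0 2597)<|a (e 4 160)<|c);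
 (a (d 8 0)<|a (d 15 1)<|a (d 8 5)<|a (d 7 6)<|a (d 8 4)<|
 a (d 12 5)<|c)));
 (let c:=(let c:=(a (b 5 2)<|a (d 4 3)<|
 a (b 5 4)<|a (g 21 0)<|a (g 22 2)<|a (d 6 0)<|a (g 24 1)<|c);
 (a (j 2)<|a (d 2 0)<|a (b 3 1)<|a (d 5 2)<|a (j 3)<|a (b 2 0)<|a (d 4 1)<|c));
 (let c:=(a (k 3)<|a (d 1 0)<|a (b 2 1)<|a (j 1)<|a (d 1 0)<|
 a (b 2 1)<|a (d 4 2)<|c);
 (f (k 1)<|f (d 1 0)<|f (b 2 1)<|f (k 2)<|f (d 1 0)<|f (b 2 1)<|c)))))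
 (f n<|i) 48 :
 Bool) = true := by decide +kernel

theorem cl11 : (beta% delta% lq26c7e934c8 fun a b d e f g h i j _ l m n =>
 m (f 3<|i) 14 5 0 7
 (let c:=(let c:=(let c:=(let c:=(a (e 2 278)<|a (b 6 0)<|a (h 4 278)<|a (h 0 1874)<|a (h 0 2949)<|a (h 0 3180)<|a (b 7 0)<|i);
 (a (d 5 4)<|a (d 7 5)<|a (e 4 2355)<|a (b 6 0)<|a (b 4 1)<|a (d 3 2)<|
 c));
 (let c:=(a (d 4 3)<|a (b 6 4)<|a (e 4 2845)<|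
 a (b 11 0)<|a (b 11 1)<|a (d 6 2)<|a (b 6 3)<|c);
 (a (d 6 3)<|a (b 6 4)<|a (e 2 620)<|a (b 12 0)<|a (b 8 1)<|a (b 12 2)<|c)));
 (let c:=(let c:=(a (b 7 4)<|a (d 7 5)<|a (b 7 6)<|a (e 38 112)<|a (b 7 0)<|a (b 15 1)<|
 a (b 7 2)<|c);
 (a (d 8 7)<|a (e 32 1880)<|
 a (b 7 0)<|a (b 6 1)<|a (b 6 2)<|a (d 11 3)<|c));
 (let c:=(a (d 7 0)<|a (b 8 1)<|a (b 8 2)<|a (b 8 3)<|a (b 7 4)<|a (d 9 5)<|a (d 8 6)<|c);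
 (a (b 5 2)<|a (d 5 3)<|a (b 5 4)<|a (d 12 5)<|a (d 10 6)<|
 a (e 25 3535)<|c))));
 (let c:=(let c:=(let c:=(a (d 24 3)<|a (b 23 4)<|a (b 23 5)<|
 a (b 7 6)<|a (e 19 1372)<|a (b 6 0)<|a (b 6 1)<|c);
 (a (h 1 1690)<|a (b 1 0)<|a (e 13 40)<|a (d 23 0)<|a (b 21 1)<|a (b 17 2)<|c));
 (let c:=(a (b 1 0)<|a (h 1 3535)<|a (b 1 0)<|a (h 1 1880)<|a (b 1 0)<|a (h 1 112)<|a (b 1 0)<|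
 c);
 (a (d 12 0)<|a (l 2 40 28)<|a (b 3 0)<|a (h 1 40)<|
 a (b 1 0)<|a (h 1 1372)<|c)));
 (let c:=(let c:=(a (g 6 82)<|a (d 9 4)<|
 a (d 10 4)<|a (d 10 2)<|a (d 11 7)<|a (d 10 9)<|a (g 12 86)<|c);
 (a (b 6 4)<|a (g 1 78)<|a (g 2 84)<|a (g 3 88)<|a (g 4 90)<|a (d 8 0)<|c));
 (let c:=(a (d 4 2)<|a (b 5 3)<|a (j 3)<|a (b 3 0)<|a (b 2 1)<|
 a (b 6 2)<|a (d 5 3)<|c);
 (f (j 1)<|f (d 1 0)<|f (b 2 1)<|f (j 2)<|f (d 1 0)<|f (b 2 1)<|c)))))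
 (f n<|i) 28 :
 Bool) = true := by decide +kernel

theorem cl12 : (beta% delta% lq26c7e934c8 fun a b d e f g h i j k l m n =>
 m (f 5<|f 3<|i) 6 8 0 16
 (let c:=(let c:=(let c:=(let c:=(let c:=(a (b 4 0)<|a (e 0 1769)<|a (b 18 0)<|a (e 0 236)<|a (b 16 0)<|i);
 (a (b 6 2)<|a (e 2 1489)<|
 a (b 38 0)<|a (e 13 3457)<|c));
 (let c:=(a (b 7 1)<|a (e 1 2457)<|a (b 1 0)<|a (b 8 1)<|c);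
 (a (d 9 7)<|a (d 9 8)<|a (e 7 601)<|a (b 9 0)<|c)));
 (let c:=(let c:=(a (b 59 2)<|a (b 6 3)<|a (b 49 4)<|a (b 22 5)<|a (b 12 6)<|
 c);
 (a (b 5 3)<|a (e 8 781)<|a (b 4 0)<|a (b 108 1)<|c));
 (let c:=(a (e 54 1955)<|a (b 6 0)<|a (b 6 1)<|a (b 5 2)<|
 c);
 (a (b 6 2)<|a (d 6 3)<|a (d 5 4)<|a (b 7 5)<|c))));
 (let c:=(let c:=(let c:=(a (d 10 5)<|a (b 9 6)<|a (e 48 3310)<|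
 a (b 7 0)<|a (b 7 1)<|c);
 (a (b 8 1)<|a (b 8 2)<|a (b 7 3)<|a (b 6 4)<|c));
 (let c:=(a (b 11 6)<|a (b 9 7)<|
 a (e 41 438)<|a (b 8 0)<|c);
 (a (b 8 2)<|a (d 7 3)<|a (b 7 4)<|a (d 6 5)<|c)));
 (let c:=(let c:=(a (b 8 7)<|
 a (e 33 1792)<|a (b 8 0)<|a (b 8 1)<|c);
 (a (d 7 3)<|a (b 9 4)<|a (b 8 5)<|a (d 8 6)<|c));
 (let c:=(a (e 25 2627)<|a (b 9 0)<|a (b 9 1)<|a (b 8 2)<|c);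
 (a (b 8 5)<|a (d 8 6)<|a (d 8 7)<|a (d 12 8)<|
 c)))));
 (let c:=(let c:=(let c:=(let c:=(a (b 10 0)<|a (b 9 1)<|a (b 9 2)<|a (b 9 3)<|a (d 9 4)<|c);
 (a (b 22 7)<|a (b 19 8)<|a (b 17 9)<|
 a (e 16 2117)<|c));
 (let c:=(a (b 40 3)<|a (b 16 4)<|a (b 15 5)<|a (d 21 6)<|c);
 (a (e 6 52)<|a (b 13 0)<|
 a (b 46 1)<|a (b 23 2)<|c)));
 (let c:=(let c:=(a (h 0 2627)<|a (h 0 1792)<|a (h 0 438)<|a (h 0 3310)<|c);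
 (a (d 13 7)<|
 a (l 1 52 32)<|a (h 0 52)<|a (h 0 2117)<|c));
 (let c:=(a (d 7 4)<|a (d 7 2)<|a (d 7 6)<|a (d 14 7)<|c);
 (a (g 31 2)<|a (d 7 0)<|a (g 33 1)<|a (d 9 0)<|c))));
 (let c:=(let c:=(let c:=(a (b 7 3)<|a (b 7 4)<|a (b 6 5)<|a (b 8 6)<|
 a (g 30 0)<|c);
 (a (j 4)<|a (d 5 0)<|a (b 6 1)<|a (d 6 2)<|c));
 (let c:=(a (b 2 1)<|a (b 6 2)<|
 a (d 5 3)<|a (b 6 4)<|c);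
 (a (d 5 2)<|a (b 6 3)<|a (j 3)<|a (b 3 0)<|c)));
 (let c:=(let c:=(a (d 4 2)<|a (j 2)<|a (d 2 0)<|a (b 3 1)<|c);
 (a (b 2 1)<|a (j 1)<|a (d 1 0)<|
 a (b 2 1)<|c));
 (let c:=(a (d 1 0)<|a (b 2 1)<|a (k 4)<|a (d 1 0)<|c);
 (f (k 1)<|f (d 1 0)<|f (b 2 1)<|f (k 2)<|c))))))
 (f n<|i) 32 :
 Bool) = true := by decide +kernel

theorem cl13 : (beta% delta% lq26c7e934c8 fun a b d e f g h i j k l m n =>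
 m (f 4<|f 1<|f 1<|f 3<|f 2<|f 5<|i) 29 6 7 0
 (let c:=(let c:=(let c:=(let c:=(let c:=(a (e 4 2301)<|
 a (b 1 0)<|a (e 0 2946)<|a (d 16 0)<|i);
 (a (d 8 3)<|a (b 5 4)<|a (e 3 3808)<|a (b 5 0)<|c));
 (let c:=(a (e 1 2321)<|a (b 3 0)<|a (b 69 1)<|a (b 40 2)<|c);
 (a (e 16 2451)<|a (b 4 0)<|a (b 26 1)<|a (d 5 2)<|
 c)));
 (let c:=(let c:=(a (b 14 0)<|a (d 12 1)<|a (b 3 2)<|a (d 11 3)<|c);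
 (a (h 0 3986)<|a (h 0 4054)<|a (b 8 0)<|
 a (e 12 2805)<|c));
 (let c:=(a (h 11 1252)<|a (h 0 3742)<|a (h 0 3823)<|a (h 0 649)<|c);
 (a (b 11 3)<|a (b 7 4)<|a (b 7 5)<|
 a (b 7 6)<|c))));
 (let c:=(let c:=(let c:=(a (e 3 1252)<|a (b 6 0)<|a (b 24 1)<|a (b 34 2)<|c);
 (a (b 6 2)<|a (b 8 3)<|
 a (b 7 4)<|a (b 7 5)<|c));
 (let c:=(a (b 11 7)<|a (e 39 1211)<|a (b 8 0)<|a (b 7 1)<|c);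
 (a (d 6 3)<|a (b 7 4)<|a (d 7 5)<|a (d 7 6)<|c)));
 (let c:=(let c:=(a (e 31 1303)<|a (b 8 0)<|a (b 7 1)<|a (b 7 2)<|
 c);
 (a (d 8 4)<|a (b 8 5)<|a (b 8 6)<|a (b 8 7)<|c));
 (a (b 8 7)<|a (b 10 8)<|a (e 23 2817)<|a (b 9 0)<|a (b 9 1)<|
 a (b 8 2)<|a (b 8 3)<|c))));
 (let c:=(let c:=(let c:=(let c:=(a (b 9 3)<|a (b 9 4)<|a (b 9 5)<|a (b 9 6)<|c);
 (a (e 14 809)<|a (b 10 0)<|a (b 9 1)<|a (b 9 2)<|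
 c));
 (let c:=(a (b 21 6)<|a (b 26 7)<|a (d 17 8)<|a (b 18 9)<|c);
 (a (b 36 2)<|a (b 16 3)<|a (b 14 4)<|
 a (b 13 5)<|c)));
 (let c:=(let c:=(a (h 0 1303)<|a (e 4 20)<|a (b 25 0)<|a (b 44 1)<|c);
 (a (l 0 20 64)<|a (h 0 20)<|
 a (h 0 809)<|a (h 0 2817)<|c));
 (let c:=(a (d 11 2)<|a (d 12 2)<|a (g 9 48)<|a (d 9 0)<|c);
 (a (d 21 0)<|
 a (g 4 60)<|a (g 5 52)<|a (d 12 0)<|c))));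
 (let c:=(let c:=(let c:=(a (d 8 0)<|a (d 7 3)<|a (d 6 2)<|a (g 19 0)<|c);
 (a (b 7 5)<|a (g 22 2)<|a (d 6 0)<|a (g 24 0)<|c));
 (let c:=(a (b 2 1)<|a (d 6 2)<|a (b 7 3)<|
 a (d 6 4)<|c);
 (a (d 2 0)<|a (b 3 1)<|a (j 4)<|a (d 1 0)<|c)));
 (let c:=(let c:=(a (j 2)<|a (b 3 0)<|a (d 5 1)<|a (j 3)<|c);
 (a (d 1 0)<|a (b 2 1)<|a (d 4 2)<|a (b 5 3)<|
 c));
 (f (k 1)<|f (d 1 0)<|f (b 2 1)<|f (k 4)<|f (d 1 0)<|f (b 2 1)<|f (j 1)<|c)))))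
 (f n<|i) 64 :
 Bool) = true := by decide +kernel

theorem cl14 : (beta% delta% lq26c7e934c8 fun a b d e f g h i j k l m n =>
 m (f 2<|f 5<|f 7<|f 6<|f 6<|f 4<|i) 0 5 12 6
 (let c:=(let c:=(let c:=(let c:=(let c:=(a (e 10 2656)<|a (b 4 0)<|
 a (e 0 129)<|a (b 3 0)<|i);
 (a (b 5 0)<|a (b 4 1)<|a (b 4 2)<|a (b 4 3)<|c));
 (a (b 14 1)<|a (b 14 2)<|a (d 13 3)<|
 a (b 7 4)<|a (d 7 5)<|a (d 7 6)<|a (e 6 2839)<|c));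
 (let c:=(a (e 5 1672)<|
 a (b 4 0)<|a (b 3 1)<|a (b 3 2)<|a (b 6 3)<|a (e 3 1468)<|a (b 57 0)<|c);
 (a (b 7 1)<|a (b 22 2)<|a (b 16 3)<|a (b 9 4)<|a (d 8 5)<|a (b 7 6)<|a (b 9 7)<|c)));
 (let c:=(let c:=(let c:=(a (d 5 4)<|a (b 7 5)<|a (e 3 1248)<|
 a (b 22 0)<|c);
 (a (b 7 0)<|a (b 6 1)<|a (b 6 2)<|a (b 6 3)<|c));
 (a (b 5 1)<|a (b 5 2)<|a (b 15 3)<|a (b 6 4)<|a (d 6 5)<|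
 a (b 14 6)<|a (e 38 332)<|c));
 (let c:=(a (b 9 3)<|a (b 9 4)<|a (b 9 5)<|
 a (b 8 6)<|a (b 8 7)<|a (e 31 3529)<|a (b 6 0)<|c);
 (a (b 7 6)<|
 a (b 14 7)<|a (b 11 8)<|a (e 23 1867)<|a (d 9 0)<|a (b 9 1)<|a (b 9 2)<|c))));
 (let c:=(let c:=(let c:=(let c:=(a (b 8 2)<|a (b 8 3)<|a (b 8 4)<|a (b 7 5)<|c);
 (a (b 15 9)<|a (e 14 1139)<|a (b 10 0)<|a (b 9 1)<|c));
 (a (b 28 2)<|a (d 16 3)<|a (b 17 4)<|a (b 32 5)<|a (b 15 6)<|a (d 14 7)<|a (b 15 8)<|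
 c));
 (let c:=(a (h 0 40)<|a (h 0 1139)<|a (h 0 1867)<|a (h 0 3529)<|a (e 4 40)<|
 a (b 10 0)<|a (b 29 1)<|c);
 (a (g 27 2)<|a (d 3 0)<|a (d 7 2)<|
 a (d 13 2)<|a (d 14 4)<|a (d 8 5)<|a (l 2 40 96)<|c)));
 (let c:=(let c:=(let c:=(a (d 3 0)<|a (b 4 1)<|a (b 4 2)<|a (g 26 4)<|c);
 (a (b 3 0)<|
 a (b 2 1)<|a (b 6 2)<|a (j 4)<|c));
 (a (b 6 4)<|a (j 2)<|a (d 4 0)<|a (b 5 1)<|a (d 7 2)<|a (b 8 3)<|a (j 3)<|c));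
 (let c:=(a (d 1 0)<|a (b 2 1)<|a (j 1)<|a (d 1 0)<|
 a (b 2 1)<|a (b 7 2)<|a (d 5 3)<|c);
 (f (k 1)<|f (d 1 0)<|f (b 2 1)<|f (k 2)<|f (d 1 0)<|f (b 2 1)<|f (k 4)<|c)))))
 (f n<|i) 96 :
 Bool) = true := by decide +kernel

end Cfsg.Agent.H300.Ru
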