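import Cfsg.Agent.H300.Ru.Chk_m3
import Cfsg.Agent.Prune
set_option linter.all false

-- part: H300/Ru/KerRB
section
set_option linter.all false

/-!
# Kernel values: the representatives 12-23 (helper300)
-/

set_option autoImplicit false
set_option maxRecDepth 100000
set_option exponentiation.threshold 5000

namespace Cfsg.Agent.H300.Ru

open Cfsg.Agent.Lib Cfsg.Agent.Lib.BitNet Cfsg.Agent.SporadicB

theorem kr12 : chkR [5, 3] 1 954 1850 6 = true := by decide +kernel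
theorem kr13 : chkR [4, 1, 1, 3, 2, 5] 1 536 1560 0 = true := by decide +kernel
theorem kr14 : chkR [2, 5, 7, 6, 6, 4] 1 438 1590 18 = true := by decide +kernel
theorem kr15 : chkR [3, 6, 0, 2] 1 1020 1820 0 = true := by decide +kernel
theorem kr16 : chkR [5, 0, 8, 2] 1 610 1770 0 = true := by decide +kernel
theorem kr17 : chkR [8, 6] 1 372 1770 0 = true := by decide +kernel
theorem kr18 : chkR [5, 3, 8, 0] 1 360 1770 0 = true := by decide +kernel
theorem kr19 : chkR [7, 1, 2] 1 728 1560 0 = true := by decide +kernel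
theorem kr20 : chkR [0, 3] 1 756 1820 0 = true := by decide +kernel
theorem kr21 : chkR [0, 3] 3 868 1820 0 = true := by decide +kernel
theorem kr22 : chkR [0, 3] 5 812 1820 0 = true := by decide +kernel
theorem kr23 : chkR [6, 2, 4, 3] 1 720 1740 0 = true := by decide +kernel

end Cfsg.Agent.H300.Ru
end

-- part: H300/Ru/KerRA
section
set_option linter.all false
open scoped Cfsg.Agent.FastGrp

/-!
# Kernel values: the representatives 0-11 (helper300)
-/

set_option autoImplicit false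
set_option maxRecDepth 100000
set_option exponentiation.threshold 5000

namespace Cfsg.Agent.H300.Ru

open Cfsg.Agent.Lib Cfsg.Agent.Lib.BitNet Cfsg.Agent.SporadicB

private noncomputable def _root_.Cfsg.Agent.KOc7b6904.k0 : (by first | exact type_of% @Cfsg.Agent.Lib.BitNetSimple.force | exact Unit : Sort _) := by first | (refine @Subtype.val _ (fun g => @Cfsg.Agent.Lib.BitNetSimple.force = @g) (@Subtype.mk _ _ (@(fun x0 x1 x2 => @Nat.rec.{1} @(fun x3 => @x0) (@x2 (nat_lit 0)) @(fun x3 x4 => @x2 (@Nat.succ @x3)) @x1)) ?_); rfl') | exact @Cfsg.Agent.Lib.BitNetSimple.force | exact ()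
private theorem _root_.Cfsg.Agent.KOc7b6904.e0 : (by first | exact @Cfsg.Agent.Lib.BitNetSimple.force = @_root_.Cfsg.Agent.KOc7b6904.k0 | exact True : Prop) := by first | (delta _root_.Cfsg.Agent.KOc7b6904.k0; exact @Subtype.property _ (fun g => @Cfsg.Agent.Lib.BitNetSimple.force = @g) _) | rfl | trivial
private noncomputable def _root_.Cfsg.Agent.KOc7b6904.k1 : (by first | exact type_of% @Cfsg.Agent.H300.Ru.tabM | exact Unit : Sort _) := by first | (refine @Subtype.val _ (fun g => @Cfsg.Agent.H300.Ru.tabM = @g) (@Subtype.mk _ _ (@(fun x0 x1 => @Nat.rec.{1} @(fun x2 => ℕ → ℕ) @(fun x2 => @x0 @x2) @(fun x2 x3 x4 => @Nat.lor (@x3 @x4) (@Nat.shiftLeft (@Cfsg.Agent.KOc7b6904.k0 _ (@Nat.add @x4 (@Nat.pow (nat_lit 2) @x2)) @x3) (@Nat.mul (nat_lit 12) (@Nat.pow (nat_lit 2) @x2)))) @x1)) ?_); rewrite [← Cfsg.Agent.KOc7b6904.e0]; (try delta Cfsg.Agent.H300.Ru.tabM); (try generalize @Cfsg.Agent.Lib.BitNetSimple.force = g0);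 rfl') | exact @Cfsg.Agent.H300.Ru.tabM | exact ()
private theorem _root_.Cfsg.Agent.KOc7b6904.e1 : (by first | exact @Cfsg.Agent.H300.Ru.tabM = @_root_.Cfsg.Agent.KOc7b6904.k1 | exact True : Prop) := by first | (delta _root_.Cfsg.Agent.KOc7b6904.k1; exact @Subtype.property _ (fun g => @Cfsg.Agent.H300.Ru.tabM = @g) _) | rfl | trivial
private noncomputable def _root_.Cfsg.Agent.KOc7b6904.k2 : (by first | exact type_of% @Cfsg.Agent.SporRec.R3.Kernel.look | exact Unit : Sort _) := by first | (refine @Subtype.val _ (fun g => @Cfsg.Agent.SporRec.R3.Kernel.look = @g) (@Subtype.mk _ _ (@(fun x0 x1 => @Nat.land (@Nat.shiftRight @x0 (@Nat.mul (nat_lit 12) @x1)) (nat_lit 4095))) ?_); rfl') | exact @Cfsg.Agent.SporRec.R3.Kernel.look | exact ()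
private theorem _root_.Cfsg.Agent.KOc7b6904.e2 : (by first | exact @Cfsg.Agent.SporRec.R3.Kernel.look = @_root_.Cfsg.Agent.KOc7b6904.k2 | exact True : Prop) := by first | (delta _root_.Cfsg.Agent.KOc7b6904.k2; exact @Subtype.property _ (fun g => @Cfsg.Agent.SporRec.R3.Kernel.look = @g) _) | rfl | trivial
private noncomputable def _root_.Cfsg.Agent.KOc7b6904.k3 : (by first | exact type_of% @Cfsg.Agent.H300.Ru.evT | exact Unit : Sort _) := by first | (refine @Subtype.val _ (fun g => @Cfsg.Agent.H300.Ru.evT = @g) (@Subtype.mk _ _ (@(fun x0 x1 => @List.rec.{1, 0} ℕ @(fun x2 => ℕ) @x1 @(fun x2 x3 x4 => @Cfsg.Agent.KOc7b6904.k2 (@Cfsg.Agent.H300.Ru.tab @x2) @x4) @x0)) ?_); rewrite [← Cfsg.Agent.KOc7b6904.e2]; (try delta Cfsg.Agent.H300.Ru.evT); (try generalize @Cfsg.Agent.SporRec.R3.Kernel.look = g0); (try generalize @Cfsg.Agent.H300.Ru.tab = g1); rfl') | exact @Cfsg.Agent.H300.Ru.evT | exact ()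
private theorem _root_.Cfsg.Agent.KOc7b6904.e3 : (by first | exact @Cfsg.Agent.H300.Ru.evT = @_root_.Cfsg.Agent.KOc7b6904.k3 | exact True : Prop) := by first | (delta _root_.Cfsg.Agent.KOc7b6904.k3; exact @Subtype.property _ (fun g => @Cfsg.Agent.H300.Ru.evT = @g) _) | rfl | trivial
private noncomputable def _root_.Cfsg.Agent.KOc7b6904.k4 : (by first | exact type_of% @Cfsg.Agent.H300.Ru.itL | exact Unit : Sort _) := by first | (refine @Subtype.val _ (fun g => @Cfsg.Agent.H300.Ru.itL = @g) (@Subtype.mk _ _ (@(fun x0 x1 x2 => @Nat.rec.{1} @(fun x3 => ℕ) @x2 @(fun x3 x4 => @Cfsg.Agent.KOc7b6904.k2 @x0 @x4) @x1)) ?_); rewrite [← Cfsg.Agent.KOc7b6904.e2]; (try delta Cfsg.Agent.H300.Ru.itL); (try generalize @Cfsg.Agent.SporRec.R3.Kernel.look = g0); rfl') | exact @Cfsg.Agent.H300.Ru.itL | exact ()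
private theorem _root_.Cfsg.Agent.KOc7b6904.e4 : (by first | exact @Cfsg.Agent.H300.Ru.itL = @_root_.Cfsg.Agent.KOc7b6904.k4 | exact True : Prop) := by first | (delta _root_.Cfsg.Agent.KOc7b6904.k4; exact @Subtype.property _ (fun g => @Cfsg.Agent.H300.Ru.itL = @g) _) | rfl | trivial
private noncomputable def _root_.Cfsg.Agent.KOc7b6904.k5 : (by first | exact type_of% @Cfsg.Agent.H300.Ru.mk | exact Unit : Sort _) := by first | (refine @Subtype.val _ (fun g => @Cfsg.Agent.H300.Ru.mk = @g) (@Subtype.mk _ _ (@(fun x0 x1 => @Nat.rec.{1} @(fun x2 => ℕ → ℕ) @(fun x2 => @Bool.rec.{1} @(fun x3 => ℕ) (nat_lit 0) (nat_lit 1) (@x0 @x2)) @(fun x2 x3 x4 => @Nat.lor (@x3 @x4) (@Nat.shiftLeft (@Cfsg.Agent.KOc7b6904.k0 _ (@Nat.add @x4 (@Nat.pow (nat_lit 2) @x2)) @x3) (@Nat.pow (nat_lit 2) @x2))) @x1)) ?_); rewrite [← Cfsg.Agent.KOc7b6904.e0]; (try delta Cfsg.Agent.H300.Ru.mk); (try generalize @Cfsg.Agent.Lib.BitNetSimple.force = g0);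 rfl') | exact @Cfsg.Agent.H300.Ru.mk | exact ()
private theorem _root_.Cfsg.Agent.KOc7b6904.e5 : (by first | exact @Cfsg.Agent.H300.Ru.mk = @_root_.Cfsg.Agent.KOc7b6904.k5 | exact True : Prop) := by first | (delta _root_.Cfsg.Agent.KOc7b6904.k5; exact @Subtype.property _ (fun g => @Cfsg.Agent.H300.Ru.mk = @g) _) | rfl | trivial
private noncomputable def _root_.Cfsg.Agent.KOc7b6904.k6 : (by first | exact type_of% @Cfsg.Agent.H300.Ru.mask | exact Unit : Sort _) := by first | (refine @Subtype.val _ (fun g => @Cfsg.Agent.H300.Ru.mask = @g) (@Subtype.mk _ _ (@(fun x0 => @Cfsg.Agent.KOc7b6904.k5 @(fun x1 => @Bool.rec.{1} @(fun x2 => @Bool) @Bool.false (@x0 @x1) (@Nat.ble (@Nat.succ @x1) (nat_lit 4060))) (nat_lit 12) (nat_lit 0))) ?_); rewrite [← Cfsg.Agent.KOc7b6904.e5]; (try delta Cfsg.Agent.H300.Ru.mask); (try generalize @Cfsg.Agent.H300.Ru.mk = g0); rfl') | exact @Cfsg.Agent.H300.Ru.mask | exact ()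
private theorem _root_.Cfsg.Agent.KOc7b6904.e6 : (by first | exact @Cfsg.Agent.H300.Ru.mask = @_root_.Cfsg.Agent.KOc7b6904.k6 | exact True : Prop) := by first | (delta _root_.Cfsg.Agent.KOc7b6904.k6; exact @Subtype.property _ (fun g => @Cfsg.Agent.H300.Ru.mask = @g) _) | rfl | trivial
private noncomputable def _root_.Cfsg.Agent.KOc7b6904.k7 : (by first | exact type_of% @Cfsg.Agent.Lib.BitNetSimple.tb | exact Unit : Sort _) := by first | (refine @Subtype.val _ (fun g => @Cfsg.Agent.Lib.BitNetSimple.tb = @g) (@Subtype.mk _ _ (@(fun x0 x1 => @Nat.beq (@Nat.land (@Nat.shiftRight @x0 @x1) (nat_lit 1)) (nat_lit 1))) ?_); rfl') | exact @Cfsg.Agent.Lib.BitNetSimple.tb | exact ()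
private theorem _root_.Cfsg.Agent.KOc7b6904.e7 : (by first | exact @Cfsg.Agent.Lib.BitNetSimple.tb = @_root_.Cfsg.Agent.KOc7b6904.k7 | exact True : Prop) := by first | (delta _root_.Cfsg.Agent.KOc7b6904.k7; exact @Subtype.property _ (fun g => @Cfsg.Agent.Lib.BitNetSimple.tb = @g) _) | rfl | trivial
private noncomputable def _root_.Cfsg.Agent.KOc7b6904.k8 : (by first | exact type_of% @Cfsg.Agent.SporadicB.RuData.rotB | exact Unit : Sort _) := by first | (refine @Subtype.val _ (fun g => @Cfsg.Agent.SporadicB.RuData.rotB = @g) (@Subtype.mk _ _ (@(fun x0 x1 => @Nat.lor (@Nat.shiftLeft (@Nat.land @x1 (@Nat.mul (@Nat.sub (@Nat.pow (nat_lit 2) (@Nat.sub (nat_lit 29) @x0)) (nat_lit 1)) (@Nat.div (@Nat.sub (@Nat.pow (nat_lit 2) (nat_lit 4060)) (nat_lit 1)) (nat_lit 536870911)))) @x0) (@Nat.land (@Nat.shiftRight @x1 (@Nat.sub (nat_lit 29) @x0)) (@Nat.mul (@Nat.sub (@Nat.pow (nat_lit 2) @x0) (nat_lit 1)) (@Nat.div (@Nat.sub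 (@Nat.pow (nat_lit 2) (nat_lit 4060)) (nat_lit 1)) (nat_lit 536870911)))))) ?_); rfl') | exact @Cfsg.Agent.SporadicB.RuData.rotB | exact ()
private theorem _root_.Cfsg.Agent.KOc7b6904.e8 : (by first | exact @Cfsg.Agent.SporadicB.RuData.rotB = @_root_.Cfsg.Agent.KOc7b6904.k8 | exact True : Prop) := by first | (delta _root_.Cfsg.Agent.KOc7b6904.k8; exact @Subtype.property _ (fun g => @Cfsg.Agent.SporadicB.RuData.rotB = @g) _) | rfl | trivial
private noncomputable def _root_.Cfsg.Agent.KOc7b6904.k9 : (by first | exact type_of% @Cfsg.Agent.SporadicB.RuData.row | exact Unit : Sort _) := by first | (refine @Subtype.val _ (fun g => @Cfsg.Agent.SporadicB.RuData.row = @g) (@Subtype.mk _ _ (@(fun x0 => @Cfsg.Agent.KOc7b6904.k8 (@Nat.mod @x0 (nat_lit 29)) (@Nat.mod (@Nat.shiftRight @Cfsg.Agent.SporadicB.RuData.R (@Nat.mul (nat_lit 4096) (@Nat.div @x0 (nat_lit 29)))) (@Nat.pow (nat_lit 2) (nat_lit 4096))))) ?_); rewrite [← Cfsg.Agent.KOc7b6904.e8];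 (try delta Cfsg.Agent.SporadicB.RuData.row); (try generalize @Cfsg.Agent.SporadicB.RuData.rotB = g0); (try generalize @Cfsg.Agent.SporadicB.RuData.R = g1); rfl') | exact @Cfsg.Agent.SporadicB.RuData.row | exact ()
private theorem _root_.Cfsg.Agent.KOc7b6904.e9 : (by first | exact @Cfsg.Agent.SporadicB.RuData.row = @_root_.Cfsg.Agent.KOc7b6904.k9 | exact True : Prop) := by first | (delta _root_.Cfsg.Agent.KOc7b6904.k9; exact @Subtype.property _ (fun g => @Cfsg.Agent.SporadicB.RuData.row = @g) _) | rfl | trivial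
private theorem _root_.Cfsg.Agent.KOc7b6904.e10.{ku} {M : Nat → Sort ku} (φ : ∀ n, M n) {z : M Nat.zero} {s : ∀ n, M n → M (Nat.succ n)} (h0 : φ Nat.zero = z) (hs : ∀ n, φ (Nat.succ n) = s n (φ n)) (n : Nat) : φ n = @Nat.rec M z s n := Nat.rec h0 (fun n ih => (hs n).trans (congrArg (s n) ih)) n
private noncomputable def _root_.Cfsg.Agent.KOc7b6904.k11 : (by first | exact type_of% @Cfsg.Agent.Lib.BitNet.popc | exact Unit : Sort _) := by first | (refine @Subtype.val _ (fun g => @Cfsg.Agent.Lib.BitNet.popc = @g) (@Subtype.mk _ _ (@(fun x0 x1 => @Nat.rec.{1} @(fun x2 => ℕ → ℕ) @(fun x2 => @Nat.land @x2 (nat_lit 1)) @(fun x2 x3 x4 => @Bool.rec.{1} @(fun x5 => ℕ) (@Nat.add (@x3 (@Nat.mod @x4 (@Nat.pow (nat_lit 2) (@Nat.pow (nat_lit 2) @x2)))) (@x3 (@Nat.shiftRight @x4 (@Nat.pow (nat_lit 2) @x2)))) (nat_lit 0) (@Nat.beq @x4 (nat_lit 0))) @x0 @x1)) ?_); funext a0 a1; refine (congrFun (_root_.Cfsg.Agent.KOc7b6904.e10 (fun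 a0 a1 => @Cfsg.Agent.Lib.BitNet.popc a0 a1) ?_ (fun c0 => ?_) a0) a1 :) <;> (rfl')) | exact @Cfsg.Agent.Lib.BitNet.popc | exact ()
private theorem _root_.Cfsg.Agent.KOc7b6904.e11 : (by first | exact @Cfsg.Agent.Lib.BitNet.popc = @_root_.Cfsg.Agent.KOc7b6904.k11 | exact True : Prop) := by first | (delta _root_.Cfsg.Agent.KOc7b6904.k11; exact @Subtype.property _ (fun g => @Cfsg.Agent.Lib.BitNet.popc = @g) _) | rfl | trivial
private noncomputable def _root_.Cfsg.Agent.KOc7b6904.k12 : (by first | exact type_of% @Cfsg.Agent.H300.Ru.chkR | exact Unit : Sort _) := by first | (refine @Subtype.val _ (fun g => @Cfsg.Agent.H300.Ru.chkR = @g) (@Subtype.mk _ _ (@(fun x0 x1 x2 x3 x4 => @Cfsg.Agent.KOc7b6904.k0 _ (@Cfsg.Agent.KOc7b6904.k1 (@Cfsg.Agent.KOc7b6904.k3 @x0) (nat_lit 12) (nat_lit 0)) @(fun x5 => @Cfsg.Agent.KOc7b6904.k0 _ (@Cfsg.Agent.KOc7b6904.k1 (@Cfsg.Agent.KOc7b6904.k4 @x5 @x1) (nat_lit 12) (nat_lit 0)) @(fun x6 =>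 @Cfsg.Agent.KOc7b6904.k0 _ (@Cfsg.Agent.KOc7b6904.k6 @(fun x7 => @Cfsg.Agent.KOc7b6904.k7 (@Cfsg.Agent.KOc7b6904.k9 @x7) (@Nat.rec.{1} @(fun x8 => ℕ) @x7 @(fun x8 x9 => @Cfsg.Agent.KOc7b6904.k2 @x6 @x9) (nat_lit 1)))) @(fun x7 => @Bool.rec.{1} @(fun x8 => @Bool) @Bool.false (@Bool.rec.{1} @(fun x8 => @Bool) @Bool.false (@Nat.beq (@Cfsg.Agent.KOc7b6904.k11 (nat_lit 12) (@Nat.land @x7 (@Cfsg.Agent.KOc7b6904.k6 @(fun x8 => @Cfsg.Agent.KOc7b6904.k7 (@Cfsg.Agent.KOc7b6904.k9 @x8) (@Nat.rec.{1} @(fun x9 => ℕ) @x8 @(fun x9 x10 => @Cfsg.Agent.KOc7b6904.k2 @x6 @x10) (nat_lit 3)))))) @x2) (@Nat.beq (@Cfsg.Agent.KOc7b6904.k11 (nat_lit 12) (@Nat.land @x7 (@Cfsg.Agent.KOc7b6904.k6 @(fun x8 => @Nat.beq (@Nat.rec.{1} @(fun x9 => ℕ) @x8 @(fun x9 x10 => @Cfsg.Agent.KOc7b6904.k2 @x6 @x10) (nat_lit 2)) @x8)))) @x4)) (@Nat.beq (@Cfsg.Agent.KOc7b6904.k11 (nat_lit 12) @x7) @x3)))))) ?_); rewrite [← Cfsg.Agent.KOc7b6904.e11, ← Cfsg.Agent.KOc7b6904.e2,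 ← Cfsg.Agent.KOc7b6904.e9, ← Cfsg.Agent.KOc7b6904.e7, ← Cfsg.Agent.KOc7b6904.e6, ← Cfsg.Agent.KOc7b6904.e4, ← Cfsg.Agent.KOc7b6904.e3, ← Cfsg.Agent.KOc7b6904.e1, ← Cfsg.Agent.KOc7b6904.e0]; (try delta Cfsg.Agent.H300.Ru.chkR Cfsg.Agent.H300.Ru.tbl Cfsg.Agent.H300.Ru.tbp Cfsg.Agent.H300.Ru.adjL Cfsg.Agent.H300.Ru.itL Cfsg.Agent.H300.Ru.fixL); (try generalize @Cfsg.Agent.Lib.BitNetSimple.force = g0); (try generalize @Cfsg.Agent.H300.Ru.tabM = g1); (try generalize @Cfsg.Agent.H300.Ru.evT = g2); (try generalize @Cfsg.Agent.H300.Ru.mask = g3); (try generalize @Cfsg.Agent.Lib.BitNetSimple.tb = g4); (try generalize @Cfsg.Agent.SporadicB.RuData.row = g5); (try generalize @Cfsg.Agent.SporRec.R3.Kernel.look = g6); (try generalize @Cfsg.Agent.Lib.BitNet.popc = g7); rfl') | exact @Cfsg.Agent.H300.Ru.chkR | exact ()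
private theorem _root_.Cfsg.Agent.KOc7b6904.e12 : (by first | exact @Cfsg.Agent.H300.Ru.chkR = @_root_.Cfsg.Agent.KOc7b6904.k12 | exact True : Prop) := by first | (delta _root_.Cfsg.Agent.KOc7b6904.k12; exact @Subtype.property _ (fun g => @Cfsg.Agent.H300.Ru.chkR = @g) _) | rfl | trivial

theorem kr0 : chkR [] 1 0 0 0 = true := by (first | (rewrite [Cfsg.Agent.KOc7b6904.e12]; decide +kernel) | decide +kernel)
theorem kr1 : chkR [0] 1 1820 1820 1820 = true := by (first | (rewrite [Cfsg.Agent.KOc7b6904.e12]; decide +kernel) | decide +kernel)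
theorem kr2 : chkR [2] 1 1920 1920 1920 = true := by (first | (rewrite [Cfsg.Agent.KOc7b6904.e12]; decide +kernel) | decide +kernel)
theorem kr3 : chkR [8] 1 0 1890 0 = true := by (first | (rewrite [Cfsg.Agent.KOc7b6904.e12]; decide +kernel) | decide +kernel)
theorem kr4 : chkR [7, 8, 5, 0, 3, 6] 1 1880 1880 88 = true := by (first | (rewrite [Cfsg.Agent.KOc7b6904.e12]; decide +kernel) | decide +kernel)
theorem kr5 : chkR [1, 0] 1 1940 1940 20 = true := by (first | (rewrite [Cfsg.Agent.KOc7b6904.e12]; decide +kernel) | decide +kernel)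
theorem kr6 : chkR [1] 1 840 840 72 = true := by (first | (rewrite [Cfsg.Agent.KOc7b6904.e12]; decide +kernel) | decide +kernel)
theorem kr7 : chkR [3, 5, 6, 7, 1, 1] 1 1020 1020 60 = true := by (first | (rewrite [Cfsg.Agent.KOc7b6904.e12]; decide +kernel) | decide +kernel)
theorem kr8 : chkR [2, 3, 6] 1 300 1500 0 = true := by (first | (rewrite [Cfsg.Agent.KOc7b6904.e12]; decide +kernel) | decide +kernel)
theorem kr9 : chkR [8, 0, 5] 1 250 1250 0 = true := by (first | (rewrite [Cfsg.Agent.KOc7b6904.e12]; decide +kernel) | decide +kernel)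
theorem kr10 : chkR [2, 4] 1 864 1770 0 = true := by (first | (rewrite [Cfsg.Agent.KOc7b6904.e12]; decide +kernel) | decide +kernel)
theorem kr11 : chkR [3] 1 812 1820 0 = true := by (first | (rewrite [Cfsg.Agent.KOc7b6904.e12]; decide +kernel) | decide +kernel)

end Cfsg.Agent.H300.Ru
end
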