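import Cfsg.Agent.H300.Ru.Chk_m3
import Cfsg.Agent.Prune
set_option linter.all false
prune_inst 0x7f00000000000000000000000000000000000000000000000000000000000000000000000000000000000000000000000000000000000000000000000000000000000000000000000000000000000000003fffffffffffffffffffffffffffbeffbdffffffff

/-!
# Kernel values: the representatives 24-35 (helper300)
-/

set_option autoImplicit false
set_option maxRecDepth 100000
set_option exponentiation.threshold 5000

namespace Cfsg.Agent.H300.Ru

open Cfsg.Agent.Lib Cfsg.Agent.Lib.BitNet Cfsg.Agent.SporadicB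

theorem kr24 : chkR [7, 0, 5, 1] 1 794 1690 2 = true := by decide +kernel
theorem kr25 : chkR [7, 0, 5, 1] 3 794 1690 2 = true := by decide +kernel
theorem kr26 : chkR [7, 7, 5] 1 820 1740 2 = true := by decide +kernel
theorem kr27 : chkR [7, 7, 5] 3 740 1740 2 = true := by decide +kernel
theorem kr28 : chkR [3, 6, 2, 5, 1] 1 850 1770 0 = true := by decide +kernel
theorem kr29 : chkR [3, 3, 6, 5, 6] 1 540 1740 0 = true := by decide +kernel
theorem kr30 : chkR [3, 3, 6, 5, 6] 7 732 1740 0 = true := by decide +kernel
theorem kr31 : chkR [3, 5, 0] 1 1092 1820 0 = true := by decide +kernel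
theorem kr32 : chkR [3, 5, 0] 3 884 1820 0 = true := by decide +kernel
theorem kr33 : chkR [3, 5, 0] 7 780 1820 0 = true := by decide +kernel
theorem kr34 : chkR [3, 2, 7, 0, 5] 1 696 1740 0 = true := by decide +kernel
theorem kr35 : chkR [3, 2, 7, 0, 5] 2 580 1740 0 = true := by decide +kernel

end Cfsg.Agent.H300.Ru
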