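import Cfsg.Agent.H300.Ru.Chk_m3
import Cfsg.Agent.Lib.ListFast
import Cfsg.Agent.H300.Ru.CertA
import Cfsg.Agent.H300.Ru.CertB_m3
import Cfsg.Agent.H300.Ru.CertD
import Cfsg.Agent.H300.Ru.KerRB_m3
import Cfsg.Agent.H300.Ru.KerRC
import Cfsg.Agent.H300.Cls.Complete
import Cfsg.Agent.S0157
import Mathlib
import Cfsg.Agent.H714.S8.AdjA_m3
import Cfsg.Agent.H678.DG.PairRep_m3
import Cfsg.Agent.H707.RowRu
import Cfsg.Agent.Prune
set_option linter.all false

section
prune_inst 0x7f00000000000000000000000000000000000000000000000000000000000000000000000000000000000000000000000000000000000000000000000000000000000000000000000000000000000000003fffffffffffffffffffffffffffbeffbdffffffff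

-- part: H300/Ru/KerFB
section
set_option linter.all false

/-!
# Kernel values: the families 15-27 (helper300)
-/

set_option autoImplicit false
set_option maxRecDepth 100000
set_option exponentiation.threshold 5000

namespace Cfsg.Agent.H300.Ru

open Cfsg.Agent.Lib Cfsg.Agent.Lib.BitNet Cfsg.Agent.SporadicB

theorem kf15 : chkF [3, 6, 0, 2] 10 0 [(1, 0), (2, 0), (5, 0)] = true := by decide +kernel
theorem kf16 : chkF [5, 0, 8, 2] 10 2 [(1, 2), (2, 10), (5, 92)] = true := by decide +kernel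
theorem kf17 : chkF [8, 6] 12 0 [(1, 2), (2, 2), (3, 20), (4, 10), (6, 92)] = true := by decide +kernel
theorem kf18 : chkF [5, 3, 8, 0] 12 0 [(1, 2), (2, 2), (3, 32), (4, 10), (6, 92)] = true := by decide +kernel
theorem kf19 : chkF [7, 1, 2] 13 0 [(1, 4)] = true := by decide +kernel
theorem kf20 : chkF [0, 3] 14 0 [(1, 0), (2, 0), (7, 0)] = true := by decide +kernel
theorem kf21 : chkF [6, 2, 4, 3] 15 0 [(1, 0), (3, 0), (5, 10)] = true := by decide +kernel
theorem kf22 : chkF [7, 0, 5, 1] 16 2 [(1, 2), (2, 4), (4, 4), (8, 92)] = true := by decide +kernel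
theorem kf23 : chkF [7, 7, 5] 20 0 [(1, 0), (2, 2), (4, 10), (5, 20), (10, 92)] = true := by decide +kernel
theorem kf24 : chkF [3, 6, 2, 5, 1] 20 2 [(1, 2), (2, 2), (4, 10), (5, 32), (10, 92)] = true := by decide +kernel
theorem kf25 : chkF [3, 3, 6, 5, 6] 24 0 [(1, 0), (2, 2), (3, 6), (4, 2), (6, 32), (8, 10), (12, 92)] = true := by decide +kernel
theorem kf26 : chkF [3, 5, 0] 26 0 [(1, 0), (2, 4), (13, 0)] = true := by decide +kernel
theorem kf27 : chkF [3, 2, 7, 0, 5] 29 0 [(1, 0)] = true := by decide +kernel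

end Cfsg.Agent.H300.Ru
end

-- part: H300/Ru/Base
section
set_option linter.all false
open scoped Cfsg.Agent.FastGrp

-- part: H300/Ru/KerFA
section
/-!
# Kernel values: the families 1-14 (helper300)
-/

set_option autoImplicit false
set_option maxRecDepth 100000
set_option exponentiation.threshold 5000

namespace Cfsg.Agent.H300.Ru

open Cfsg.Agent.Lib Cfsg.Agent.Lib.BitNet Cfsg.Agent.SporadicB

theorem kf1 : chkF [0] 2 0 [(1, 0)] = true := by decide +kernel
theorem kf2 : chkF [2] 2 3252 [(1, 92)] = true := by decide +kernel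
theorem kf3 : chkF [8] 3 0 [(1, 10)] = true := by decide +kernel
theorem kf4 : chkF [7, 8, 5, 0, 3, 6] 4 12 [(1, 4), (2, 92)] = true := by decide +kernel
theorem kf5 : chkF [1, 0] 4 56 [(1, 8), (2, 92)] = true := by decide +kernel
theorem kf6 : chkF [1] 4 60 [(1, 20), (2, 92)] = true := by decide +kernel
theorem kf7 : chkF [3, 5, 6, 7, 1, 1] 4 672 [(1, 32), (2, 92)] = true := by decide +kernel
theorem kf8 : chkF [2, 3, 6] 5 0 [(1, 0)] = true := by decide +kernel
theorem kf9 : chkF [8, 0, 5] 5 50 [(1, 10)] = true := by decide +kernel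
theorem kf10 : chkF [2, 4] 6 0 [(1, 2), (2, 10), (3, 92)] = true := by decide +kernel
theorem kf11 : chkF [3] 7 0 [(1, 0)] = true := by decide +kernel
theorem kf12 : chkF [5, 3] 8 2 [(1, 2), (2, 8), (4, 92)] = true := by decide +kernel
theorem kf13 : chkF [4, 1, 1, 3, 2, 5] 8 12 [(1, 4), (2, 4), (4, 92)] = true := by decide +kernel
theorem kf14 : chkF [2, 5, 7, 6, 6, 4] 8 6 [(1, 6), (2, 32), (4, 92)] = true := by decide +kernel

end Cfsg.Agent.H300.Ru
end

-- part: H300/Ru/Tables
section
/-!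
# The families and representatives of the classes of the Rudvalis group (helper300)
-/

set_option autoImplicit false
set_option maxRecDepth 100000
set_option exponentiation.threshold 5000

namespace Cfsg.Agent.H300.Ru

open Cfsg.Agent.Lib Cfsg.Agent.Lib.BitNet Cfsg.Agent.SporadicB Cfsg.Agent.SporadicB.RuData Cfsg.Agent.SporadicB.RuOrder
open Cfsg.Agent.RuD.Data Cfsg.Agent.SporRec.TCUpperCert Cfsg.Agent.SporRec.R3.Kernel Cfsg.Agent.RuD.Letters
open Cfsg.Agent.KFacts.Ru.CentEng Finset

/-- the families: word, order, centralizer order, numbers of fixed points of the powers, `a1`, `sw`, `o1` -/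
def FL : List Fm := [
  ⟨[], 1, 145926144000, [], 0, 0, 7125300⟩,
  ⟨[0], 2, 116480, [(1, 0)], 1820, 1820, 0⟩,
  ⟨[2], 2, 245760, [(1, 92)], 1920, 1920, 3252⟩,
  ⟨[8], 3, 2160, [(1, 10)], 1890, 0, 0⟩,
  ⟨[7, 8, 5, 0, 3, 6], 4, 1024, [(1, 4), (2, 92)], 1880, 88, 12⟩,
  ⟨[1, 0], 4, 512, [(1, 8), (2, 92)], 1940, 20, 56⟩,
  ⟨[1], 4, 3840, [(1, 20), (2, 92)], 840, 72, 60⟩,
  ⟨[3, 5, 6, 7, 1, 1], 4, 7680, [(1, 32), (2, 92)], 1020, 60, 672⟩,
  ⟨[2, 3, 6], 5, 300, [(1, 0)], 1500, 0, 0⟩,
  ⟨[8, 0, 5], 5, 1000, [(1, 10)], 1250, 0, 50⟩,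
  ⟨[2, 4], 6, 48, [(1, 2), (2, 10), (3, 92)], 1770, 0, 0⟩,
  ⟨[3], 7, 28, [(1, 0)], 1820, 0, 0⟩,
  ⟨[5, 3], 8, 32, [(1, 2), (2, 8), (4, 92)], 1850, 6, 2⟩,
  ⟨[4, 1, 1, 3, 2, 5], 8, 64, [(1, 4), (2, 4), (4, 92)], 1560, 0, 12⟩,
  ⟨[2, 5, 7, 6, 6, 4], 8, 96, [(1, 6), (2, 32), (4, 92)], 1590, 18, 6⟩,
  ⟨[3, 6, 0, 2], 10, 20, [(1, 0), (2, 0), (5, 0)], 1820, 0, 0⟩,
  ⟨[5, 0, 8, 2], 10, 40, [(1, 2), (2, 10), (5, 92)], 1770, 0, 2⟩,
  ⟨[8, 6], 12, 12, [(1, 2), (2, 2), (3, 20), (4, 10), (6, 92)], 1770, 0, 0⟩,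
  ⟨[5, 3, 8, 0], 12, 24, [(1, 2), (2, 2), (3, 32), (4, 10), (6, 92)], 1770, 0, 0⟩,
  ⟨[7, 1, 2], 13, 52, [(1, 4)], 1560, 0, 0⟩,
  ⟨[0, 3], 14, 28, [(1, 0), (2, 0), (7, 0)], 1820, 0, 0⟩,
  ⟨[6, 2, 4, 3], 15, 15, [(1, 0), (3, 0), (5, 10)], 1740, 0, 0⟩,
  ⟨[7, 0, 5, 1], 16, 16, [(1, 2), (2, 4), (4, 4), (8, 92)], 1690, 2, 2⟩,
  ⟨[7, 7, 5], 20, 20, [(1, 0), (2, 2), (4, 10), (5, 20), (10, 92)], 1740, 2, 0⟩,
  ⟨[3, 6, 2, 5, 1], 20, 20, [(1, 2), (2, 2), (4, 10), (5, 32), (10, 92)], 1770, 0, 2⟩,
  ⟨[3, 3, 6, 5, 6], 24, 24, [(1, 0), (2, 2), (3, 6), (4, 2), (6, 32), (8, 10), (12, 92)], 1740, 0, 0⟩,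
  ⟨[3, 5, 0], 26, 52, [(1, 0), (2, 4), (13, 0)], 1820, 0, 0⟩,
  ⟨[3, 2, 7, 0, 5], 29, 29, [(1, 0)], 1740, 0, 0⟩]

/-- a representative: family, exponent, invariant `j13` -/
structure Rp where
  i : ℕ
  k : ℕ
  J : ℕ
deriving DecidableEq

/-- the representatives of the classes -/
def RL : List Rp := [
  ⟨0, 1, 0⟩, ⟨1, 1, 1820⟩, ⟨2, 1, 1920⟩, ⟨3, 1, 0⟩, ⟨4, 1, 1880⟩, ⟨5, 1, 1940⟩, ⟨6, 1, 840⟩, ⟨7, 1, 1020⟩,
  ⟨8, 1, 300⟩, ⟨9, 1, 250⟩, ⟨10, 1, 864⟩, ⟨11, 1, 812⟩, ⟨12, 1, 954⟩, ⟨13, 1, 536⟩, ⟨14, 1, 438⟩, ⟨15, 1, 1020⟩,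
  ⟨16, 1, 610⟩, ⟨17, 1, 372⟩, ⟨18, 1, 360⟩, ⟨19, 1, 728⟩, ⟨20, 1, 756⟩, ⟨20, 3, 868⟩, ⟨20, 5, 812⟩, ⟨21, 1, 720⟩,
  ⟨22, 1, 794⟩, ⟨22, 3, 794⟩, ⟨23, 1, 820⟩, ⟨23, 3, 740⟩, ⟨24, 1, 850⟩, ⟨25, 1, 540⟩, ⟨25, 7, 732⟩, ⟨26, 1, 1092⟩,
  ⟨26, 3, 884⟩, ⟨26, 7, 780⟩, ⟨27, 1, 696⟩, ⟨27, 2, 580⟩]

def fm (i : ℕ) : Fm := FL.getD i ⟨[], 1, 1, [], 0, 0, 0⟩

noncomputable def X (i : ℕ) : H := wprod ml (fm i).w

def PF (f : Fm) : Prop := orderOf (wprod ml f.w : H) = f.n ∧ o1 (wprod ml f.w) = f.O ∧
  (∀ p ∈ f.F, fixC ((wprod ml f.w) ^ p.1) = p.2) ∧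
  Nat.card (Subgroup.centralizer ({wprod ml f.w} : Set H)) ≤ f.c

theorem pf_of {w : List ℕ} {n c O A S : ℕ} {F : List (ℕ × ℕ)} (hw : okW w = true) (hn : 0 < n)
    (h : chkF w n O F = true) {c0 c1 c2 c3 : ℕ} {l : List CI} (hc : chk w c0 c1 c2 c3 l [full] c = true) :
    PF ⟨w, n, c, F, A, S, O⟩ := by
  replace h := chkF_tab hw h
  obtain ⟨h1, h⟩ := and2 h
  obtain ⟨h2, h3⟩ := and2 h
  have hT := isTab_tbl hw
  refine ⟨order_eval hT hn h1, ?_, ?_, card_cent_le hw hc⟩
  · change o1 (wprod ml w) = O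
    rw [o1_eval hT]
    exact Nat.eq_of_beq_eq_true h2
  · intro p hp
    change fixC ((wprod ml w) ^ p.1) = p.2
    rw [fixC_eval hT]
    exact Nat.eq_of_beq_eq_true (List.all_eq_true.1 h3 p hp)

/-- the number of neighbours -/
theorem card_adj (p : Fin 4060) : (univ.filter fun q : Fin 4060 => Adj p q).card = 1755 := by
  have ht := isPretransitive
  obtain ⟨c, rfl⟩ := MulAction.exists_smul_eq H b1 p
  change (univ.filter fun q : Fin 4060 => Adj ((c : Equiv.Perm (Fin 4060)) b1) q).card = 1755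
  rw [← card_conj c (fun q => Adj b1 q) _ fun q => adj_iff c b1 q]
  have h : Nat.beq (popc 12 (row 0)) 1755 = true := by decide +kernel
  have h' : Nat.beq (Nat.shiftRight (row 0) 4060) 0 = true := by decide +kernel
  rw [← Nat.eq_of_beq_eq_true h]
  refine (popc_eq_card (fun i => Iff.rfl) fun i hi => ?_).symm
  have h1 : (row 0) >>> 4060 = 0 := Nat.eq_of_beq_eq_true h'
  have h2 : ((row 0) >>> 4060).testBit (i - 4060) = (row 0).testBit i := by
    rw [Nat.testBit_shiftRight, Nat.add_sub_cancel' hi]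
  change (row 0).testBit i = false
  rw [← h2, h1, Nat.zero_testBit]

theorem o1_one : o1 (1 : H) = 7125300 := by
  have h : ∀ p : Fin 4060, (if ((1 : H) : Equiv.Perm (Fin 4060)) p = p then
      (univ.filter fun q : Fin 4060 => ((1 : H) : Equiv.Perm (Fin 4060)) q = q ∧ Adj p q).card else 0) = 1755 := by
    intro p
    have h1 : ((1 : H) : Equiv.Perm (Fin 4060)) p = p := rfl
    rw [if_pos h1, ← card_adj p]
    refine congrArg Finset.card ?_
    ext q
    rw [mem_filter, mem_filter]
    have h2 : ((1 : H) : Equiv.Perm (Fin 4060)) q = q := rfl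
    simp [h2]
  rw [o1, Finset.sum_congr rfl fun p _ => h p, Finset.sum_const, Finset.card_univ, Fintype.card_fin, smul_eq_mul]

theorem pf0 : PF ⟨[], 1, 145926144000, [], 0, 0, 7125300⟩ := by
  refine ⟨orderOf_one, o1_one, fun p hp => absurd hp List.not_mem_nil, ?_⟩
  rw [← card_H]
  exact Subgroup.card_le_card_group _

theorem FL_ok : ∀ f ∈ FL, PF f :=
  List.forall_mem_cons.2 ⟨pf0, 
  List.forall_mem_cons.2 ⟨pf_of (by decide) (by norm_num) kf1 cl1,
  List.forall_mem_cons.2 ⟨pf_of (by decide) (by norm_num) kf2 cl2,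
  List.forall_mem_cons.2 ⟨pf_of (by decide) (by norm_num) kf3 cl3,
  List.forall_mem_cons.2 ⟨pf_of (by decide) (by norm_num) kf4 cl4,
  List.forall_mem_cons.2 ⟨pf_of (by decide) (by norm_num) kf5 cl5,
  List.forall_mem_cons.2 ⟨pf_of (by decide) (by norm_num) kf6 cl6,
  List.forall_mem_cons.2 ⟨pf_of (by decide) (by norm_num) kf7 cl7,
  List.forall_mem_cons.2 ⟨pf_of (by decide) (by norm_num) kf8 cl8,
  List.forall_mem_cons.2 ⟨pf_of (by decide) (by norm_num) kf9 cl9,
  List.forall_mem_cons.2 ⟨pf_of (by decide) (by norm_num) kf10 cl10,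
  List.forall_mem_cons.2 ⟨pf_of (by decide) (by norm_num) kf11 cl11,
  List.forall_mem_cons.2 ⟨pf_of (by decide) (by norm_num) kf12 cl12,
  List.forall_mem_cons.2 ⟨pf_of (by decide) (by norm_num) kf13 cl13,
  List.forall_mem_cons.2 ⟨pf_of (by decide) (by norm_num) kf14 cl14,
  List.forall_mem_cons.2 ⟨pf_of (by decide) (by norm_num) kf15 cl15,
  List.forall_mem_cons.2 ⟨pf_of (by decide) (by norm_num) kf16 cl16,
  List.forall_mem_cons.2 ⟨pf_of (by decide) (by norm_num) kf17 cl17,
  List.forall_mem_cons.2 ⟨pf_of (by decide) (by norm_num) kf18 cl18,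
  List.forall_mem_cons.2 ⟨pf_of (by decide) (by norm_num) kf19 cl19,
  List.forall_mem_cons.2 ⟨pf_of (by decide) (by norm_num) kf20 cl20,
  List.forall_mem_cons.2 ⟨pf_of (by decide) (by norm_num) kf21 cl21,
  List.forall_mem_cons.2 ⟨pf_of (by decide) (by norm_num) kf22 cl22,
  List.forall_mem_cons.2 ⟨pf_of (by decide) (by norm_num) kf23 cl23,
  List.forall_mem_cons.2 ⟨pf_of (by decide) (by norm_num) kf24 cl24,
  List.forall_mem_cons.2 ⟨pf_of (by decide) (by norm_num) kf25 cl25,
  List.forall_mem_cons.2 ⟨pf_of (by decide) (by norm_num) kf26 cl26,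
  List.forall_mem_cons.2 ⟨pf_of (by decide) (by norm_num) kf27 cl27,
  fun _ h => absurd h List.not_mem_nil⟩⟩⟩⟩⟩⟩⟩⟩⟩⟩⟩⟩⟩⟩⟩⟩⟩⟩⟩⟩⟩⟩⟩⟩⟩⟩⟩⟩

def PR (r : Rp) : Prop := a1 (X r.i ^ r.k) = (fm r.i).A ∧ j13 (X r.i ^ r.k) = r.J ∧ sw (X r.i ^ r.k) = (fm r.i).S

theorem pr_of {w : List ℕ} {k J A S : ℕ} (hw : okW w = true) (h : chkR w k J A S = true) :
    a1 ((wprod ml w) ^ k) = A ∧ j13 ((wprod ml w) ^ k) = J ∧ sw ((wprod ml w) ^ k) = S := by
  replace h := chkR_tab hw h
  obtain ⟨h1, h⟩ := and2 h
  obtain ⟨h2, h3⟩ := and2 h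
  have hT := isTab_tbp (isTab_tbl hw) k
  refine ⟨?_, ?_, ?_⟩
  · rw [a1_eval hT]
    exact Nat.eq_of_beq_eq_true h1
  · rw [j13_eval hT]
    exact Nat.eq_of_beq_eq_true h3
  · rw [sw_eval hT]
    exact Nat.eq_of_beq_eq_true h2

theorem RL_ok : ∀ r ∈ RL, PR r :=
  List.forall_mem_cons.2 ⟨pr_of (by decide) kr0,
  List.forall_mem_cons.2 ⟨pr_of (by decide) kr1,
  List.forall_mem_cons.2 ⟨pr_of (by decide) kr2,
  List.forall_mem_cons.2 ⟨pr_of (by decide) kr3,
  List.forall_mem_cons.2 ⟨pr_of (by decide) kr4,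
  List.forall_mem_cons.2 ⟨pr_of (by decide) kr5,
  List.forall_mem_cons.2 ⟨pr_of (by decide) kr6,
  List.forall_mem_cons.2 ⟨pr_of (by decide) kr7,
  List.forall_mem_cons.2 ⟨pr_of (by decide) kr8,
  List.forall_mem_cons.2 ⟨pr_of (by decide) kr9,
  List.forall_mem_cons.2 ⟨pr_of (by decide) kr10,
  List.forall_mem_cons.2 ⟨pr_of (by decide) kr11,
  List.forall_mem_cons.2 ⟨pr_of (by decide) kr12,
  List.forall_mem_cons.2 ⟨pr_of (by decide) kr13,
  List.forall_mem_cons.2 ⟨pr_of (by decide) kr14,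
  List.forall_mem_cons.2 ⟨pr_of (by decide) kr15,
  List.forall_mem_cons.2 ⟨pr_of (by decide) kr16,
  List.forall_mem_cons.2 ⟨pr_of (by decide) kr17,
  List.forall_mem_cons.2 ⟨pr_of (by decide) kr18,
  List.forall_mem_cons.2 ⟨pr_of (by decide) kr19,
  List.forall_mem_cons.2 ⟨pr_of (by decide) kr20,
  List.forall_mem_cons.2 ⟨pr_of (by decide) kr21,
  List.forall_mem_cons.2 ⟨pr_of (by decide) kr22,
  List.forall_mem_cons.2 ⟨pr_of (by decide) kr23,
  List.forall_mem_cons.2 ⟨pr_of (by decide) kr24,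
  List.forall_mem_cons.2 ⟨pr_of (by decide) kr25,
  List.forall_mem_cons.2 ⟨pr_of (by decide) kr26,
  List.forall_mem_cons.2 ⟨pr_of (by decide) kr27,
  List.forall_mem_cons.2 ⟨pr_of (by decide) kr28,
  List.forall_mem_cons.2 ⟨pr_of (by decide) kr29,
  List.forall_mem_cons.2 ⟨pr_of (by decide) kr30,
  List.forall_mem_cons.2 ⟨pr_of (by decide) kr31,
  List.forall_mem_cons.2 ⟨pr_of (by decide) kr32,
  List.forall_mem_cons.2 ⟨pr_of (by decide) kr33,
  List.forall_mem_cons.2 ⟨pr_of (by decide) kr34,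
  List.forall_mem_cons.2 ⟨pr_of (by decide) kr35,
  fun _ h => absurd h List.not_mem_nil⟩⟩⟩⟩⟩⟩⟩⟩⟩⟩⟩⟩⟩⟩⟩⟩⟩⟩⟩⟩⟩⟩⟩⟩⟩⟩⟩⟩⟩⟩⟩⟩⟩⟩⟩⟩

theorem ii_pow {w : List ℕ} {k v : ℕ} (hw : okW w = true) (h : iiW w k = v) : ii ((wprod ml w) ^ k) = v := by
  rw [iiW_tab hw] at h
  rw [ii_eval (isTab_tbp (isTab_tbl hw) k)]
  exact h

theorem ii1 : ii (X 22 ^ 1) = 24 := ii_pow (by decide) ki1
theorem ii3 : ii (X 22 ^ 3) = 8 := ii_pow (by decide) ki3

end Cfsg.Agent.H300.Ru
end

-- part: H300/Ru/Cls
section
/-!
# The conjugacy classes of the Rudvalis group (helper300)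

* `cover` : every element of `RuOrder.H` is conjugate to one of the 36 elements `R j` (powers of short words).
* `card_cls`, `card_centralizer` : the sizes of the classes and the centralizers.
* `fam` : the family (class of cyclic subgroups) of an element; `fam_pow` : power maps.
-/

set_option autoImplicit false
set_option maxRecDepth 100000
set_option exponentiation.threshold 5000

namespace Cfsg.Agent.H300.Ru

open Cfsg.Agent.Lib Cfsg.Agent.Lib.BitNet Cfsg.Agent.SporadicB Cfsg.Agent.SporadicB.RuData Cfsg.Agent.SporadicB.RuOrder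
open Cfsg.Agent.RuD.Data Cfsg.Agent.SporRec.TCUpperCert Cfsg.Agent.SporRec.R3.Kernel Cfsg.Agent.RuD.Letters
open Cfsg.Agent.KFacts.Ru.CentEng Finset

theorem order_conj {G : Type*} [Group G] {x y : G} (h : IsConj x y) : orderOf x = orderOf y := by
  obtain ⟨c, rfl⟩ := isConj_iff.1 h
  exact (orderOf_injective (MulAut.conj c).toMonoidHom (MulAut.conj c).injective x).symm

def rp (j : Fin 36) : Rp := RL.getD j ⟨0, 1, 0⟩

/-- the representatives -/
noncomputable def R (j : Fin 36) : H := X (rp j).i ^ (rp j).k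

theorem rp_mem (j : Fin 36) : rp j ∈ RL := by
  have h : (j : ℕ) < RL.length := j.2
  rw [rp, List.getD_eq_getElem _ _ h]
  exact List.getElem_mem h

theorem fm_mem {i : ℕ} (h : i < 28) : fm i ∈ FL := by
  have h : i < FL.length := h
  rw [fm, List.getD_eq_getElem _ _ h]
  exact List.getElem_mem h

theorem hX {i : ℕ} (hi : i < 28) : PF (fm i) := FL_ok _ (fm_mem hi)

theorem order_X {i : ℕ} (hi : i < 28) : orderOf (X i) = (fm i).n := (hX hi).1

theorem rp_lt : ∀ j : Fin 36, (rp j).i < 28 := by decide +kernel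

theorem cop : ∀ j : Fin 36, Nat.Coprime (fm (rp j).i).n (rp j).k := by decide +kernel

theorem order_R (j : Fin 36) : orderOf (R j) = (fm (rp j).i).n := by
  have h := order_X (rp_lt j)
  rw [R, Nat.Coprime.orderOf_pow, h]
  rw [h]
  exact cop j

theorem cent_R (j : Fin 36) : Nat.card (Subgroup.centralizer ({R j} : Set H)) ≤ (fm (rp j).i).c := by
  rw [R, Cls.centralizer_pow]
  · exact (hX (rp_lt j)).2.2.2
  · rw [order_X (rp_lt j)]
    exact cop j

theorem sep : ∀ i j : Fin 36, (fm (rp i).i).n = (fm (rp j).i).n → (rp i).J = (rp j).J →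
    i = j ∨ (i = 24 ∧ j = 25) ∨ (i = 25 ∧ j = 24) := by decide +kernel

theorem nonconj (i j : Fin 36) (h : IsConj (R i) (R j)) : i = j := by
  have h1 : (fm (rp i).i).n = (fm (rp j).i).n := by
    rw [← order_R, ← order_R]
    exact order_conj h
  have h2 : (rp i).J = (rp j).J := by
    rw [← (RL_ok _ (rp_mem i)).2.1, ← (RL_ok _ (rp_mem j)).2.1]
    exact j13_conj h
  rcases sep i j h1 h2 with h3 | ⟨rfl, rfl⟩ | ⟨rfl, rfl⟩
  · exact h3
  · have h3 := ii_conj h
    have h4 : ii (R 24) = 24 := ii1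
    have h5 : ii (R 25) = 8 := ii3
    rw [h4, h5] at h3
    exact absurd h3 (by norm_num)
  · have h3 := ii_conj h
    have h4 : ii (R 24) = 24 := ii1
    have h5 : ii (R 25) = 8 := ii3
    rw [h4, h5] at h3
    exact absurd h3 (by norm_num)

theorem main : (∀ g, ∃ i, IsConj (R i) g) ∧
    ∀ i, Nat.card {u : H // IsConj (R i) u} = Nat.card H / (fm (rp i).i).c := by
  refine Cls.complete R (fun i => (fm (rp i).i).c) cent_R nonconj ?_
  rw [card_H]
  decide +kernel

/-- **the list of the classes is complete** -/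
theorem cover (g : H) : ∃ i, IsConj (R i) g := main.1 g

theorem card_cls (i : Fin 36) : Nat.card {u : H // IsConj (R i) u} = 145926144000 / (fm (rp i).i).c := by
  rw [main.2 i, card_H]

theorem dvd_card : ∀ i : Fin 36, (fm (rp i).i).c ∣ 145926144000 := by decide +kernel

theorem card_centralizer (i : Fin 36) : Nat.card (Subgroup.centralizer ({R i} : Set H)) = (fm (rp i).i).c := by
  apply Cls.card_cent
  · rw [card_H]
    exact dvd_card i
  · exact main.2 i

/-! ### the family of an element -/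

/-- the family of an element -/
noncomputable def fam (g : H) : ℕ := (rp (cover g).choose).i

theorem fam_eq {g : H} {j : Fin 36} (h : IsConj (R j) g) : fam g = (rp j).i := by
  have h1 := (cover g).choose_spec
  rw [fam, nonconj _ _ (h1.trans h.symm)]

theorem fam_R (j : Fin 36) : fam (R j) = (rp j).i := fam_eq (IsConj.refl _)

theorem fam_conj {g g' : H} (h : IsConj g g') : fam g = fam g' := by
  obtain ⟨j, hj⟩ := cover g
  rw [fam_eq hj, fam_eq (hj.trans h)]

theorem fam_lt (g : H) : fam g < 28 := rp_lt _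

/-- numbers of fixed points of the powers -/
def lk : List (ℕ × ℕ) → ℕ → ℕ
  | [], _ => 4060
  | p :: l, d => if p.1 = d then p.2 else lk l d

/-- the number of fixed points of `X i ^ m` -/
def fx (i m : ℕ) : ℕ := lk (fm i).F (Nat.gcd m (fm i).n)

theorem lk_mem {l : List (ℕ × ℕ)} {d : ℕ} (h : d ∈ l.map Prod.fst) : (d, lk l d) ∈ l := by
  induction l with
  | nil => exact absurd h List.not_mem_nil
  | cons p l ih =>
    rw [lk]
    split_ifs with h1
    · rw [← h1]
      exact List.mem_cons_self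
    · rw [List.map_cons, List.mem_cons] at h
      rcases h with h | h
      · exact absurd h.symm h1
      · exact List.mem_cons_of_mem _ (ih h)

theorem keysOk : ∀ i : Fin 28, 0 < (fm i).n ∧ lk (fm i).F (fm i).n = 4060 ∧
    ∀ d : Fin 30, (d : ℕ) ∣ (fm i).n → (d : ℕ) = (fm i).n ∨ (d : ℕ) ∈ (fm i).F.map Prod.fst := by decide +kernel

theorem n_lt : ∀ i : Fin 28, (fm i).n < 30 := by decide +kernel

theorem fixC_one : fixC (1 : H) = 4060 := by
  rw [fixC, Finset.filter_true_of_mem]
  · simp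
  · intro p _
    rfl

theorem fixC_X {i : ℕ} (hi : i < 28) (m : ℕ) : fixC (X i ^ m) = fx i m := by
  have h1 : X i ^ (fm i).n = 1 := by rw [← order_X hi]; exact pow_orderOf_eq_one _
  rw [fixC_pow _ _ _ h1, fx]
  obtain ⟨h0, h2, h3⟩ := keysOk ⟨i, hi⟩
  have h4 : Nat.gcd m (fm i).n ∣ (fm i).n := Nat.gcd_dvd_right _ _
  have h5 : Nat.gcd m (fm i).n < 30 := lt_of_le_of_lt (Nat.le_of_dvd h0 h4) (n_lt ⟨i, hi⟩)
  rcases h3 ⟨_, h5⟩ h4 with h6 | h6
  · have h7 : Nat.gcd m (fm i).n = (fm i).n := h6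
    rw [h7, h1, fixC_one]
    exact h2.symm
  · have h7 := (hX hi).2.2.1 _ (lk_mem h6)
    exact h7

theorem fixC_R (j : Fin 36) (m : ℕ) : fixC (R j ^ m) = fx (rp j).i ((rp j).k * m) := by
  rw [R, ← pow_mul, fixC_X (rp_lt j)]

theorem keySep : ∀ (j : Fin 36) (i : Fin 28), (fm (rp j).i).n = (fm i).n →
    fx (rp j).i ((rp j).k * 1) = fx i 1 → fx (rp j).i ((rp j).k * 3) = fx i 3 → (rp j).i = i := by decide +kernel

theorem fam_of_key {g : H} {i : ℕ} (hi : i < 28) (h0 : orderOf g = (fm i).n) (h1 : fixC (g ^ 1) = fx i 1)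
    (h3 : fixC (g ^ 3) = fx i 3) : fam g = i := by
  obtain ⟨j, hj⟩ := cover g
  rw [fam_eq hj]
  refine keySep j ⟨i, hi⟩ ?_ ?_ ?_
  · rw [← order_R, order_conj hj, h0]
  · rw [← fixC_R, ← h1]
    exact fixC_conj (hj.pow 1)
  · rw [← fixC_R, ← h3]
    exact fixC_conj (hj.pow 3)

theorem fam_pow (k : ℕ) (P : List ℕ) (h : ∀ j : Fin 36, P.getD (rp j).i 0 < 28 ∧
    (fm (rp j).i).n / Nat.gcd (fm (rp j).i).n k = (fm (P.getD (rp j).i 0)).n ∧
    fx (rp j).i ((rp j).k * (k * 1)) = fx (P.getD (rp j).i 0) 1 ∧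
    fx (rp j).i ((rp j).k * (k * 3)) = fx (P.getD (rp j).i 0) 3) (hk : k ≠ 0) (g : H) :
    fam (g ^ k) = P.getD (fam g) 0 := by
  obtain ⟨j, hj⟩ := cover g
  rw [← fam_conj (hj.pow k), fam_eq hj]
  obtain ⟨h1, h2, h3, h4⟩ := h j
  refine fam_of_key h1 ?_ ?_ ?_
  · rw [orderOf_pow' _ hk, order_R, h2]
  · rw [← pow_mul, fixC_R, h3]
  · rw [← pow_mul, fixC_R, h4]

/-- the power map for 2 -/
def P2 : List ℕ := [0, 0, 0, 3, 2, 2, 2, 2, 8, 9, 3, 11, 5, 4, 7, 8, 9, 10, 10, 19, 11, 21, 13, 16, 16, 18, 19, 27]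

theorem fam_pow2 (g : H) : fam (g ^ 2) = P2.getD (fam g) 0 :=
  fam_pow 2 P2 (by decide +kernel) (by norm_num) g

/-- the power map for 3 -/
def P3 : List ℕ := [0, 1, 2, 0, 4, 5, 6, 7, 8, 9, 2, 11, 12, 13, 14, 15, 16, 6, 7, 19, 20, 8, 22, 23, 24, 14, 26, 27]

theorem fam_pow3 (g : H) : fam (g ^ 3) = P3.getD (fam g) 0 :=
  fam_pow 3 P3 (by decide +kernel) (by norm_num) g

/-- the power map for 5 -/
def P5 : List ℕ := [0, 1, 2, 3, 4, 5, 6, 7, 0, 0, 10, 11, 12, 13, 14, 1, 2, 17, 18, 19, 20, 3, 22, 6, 7, 25, 26, 27]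

theorem fam_pow5 (g : H) : fam (g ^ 5) = P5.getD (fam g) 0 :=
  fam_pow 5 P5 (by decide +kernel) (by norm_num) g

/-- the power map for 7 -/
def P7 : List ℕ := [0, 1, 2, 3, 4, 5, 6, 7, 8, 9, 10, 0, 12, 13, 14, 15, 16, 17, 18, 19, 1, 21, 22, 23, 24, 25, 26, 27]

theorem fam_pow7 (g : H) : fam (g ^ 7) = P7.getD (fam g) 0 :=
  fam_pow 7 P7 (by decide +kernel) (by norm_num) g

/-! ### values of the invariants -/

theorem orderOf_fam (g : H) : orderOf g = (fm (fam g)).n := by
  obtain ⟨j, hj⟩ := cover g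
  rw [fam_eq hj, ← order_R, order_conj hj]

theorem a1_fam (g : H) : a1 g = (fm (fam g)).A := by
  obtain ⟨j, hj⟩ := cover g
  rw [fam_eq hj, ← a1_conj hj]
  exact (RL_ok _ (rp_mem j)).1

theorem sw_fam (g : H) : sw g = (fm (fam g)).S := by
  obtain ⟨j, hj⟩ := cover g
  rw [fam_eq hj, ← sw_conj hj]
  exact (RL_ok _ (rp_mem j)).2.2

theorem fxOk : ∀ j : Fin 36, fx (rp j).i ((rp j).k * 1) = fx (rp j).i 1 := by decide +kernel

theorem fixC_fam (g : H) : fixC g = fx (fam g) 1 := by
  obtain ⟨j, hj⟩ := cover g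
  rw [fam_eq hj, ← fixC_conj hj, ← fxOk j, ← fixC_R, pow_one]

theorem o1_congr {g g' : H} (h1 : g ∈ Subgroup.zpowers g') (h2 : g' ∈ Subgroup.zpowers g) : o1 g = o1 g' := by
  have h : ∀ p : Fin 4060, (g : Equiv.Perm (Fin 4060)) p = p ↔ (g' : Equiv.Perm (Fin 4060)) p = p :=
    fun p => ⟨fun h => fix_zpow h h2, fun h => fix_zpow h h1⟩
  rw [o1, o1]
  refine Finset.sum_congr rfl fun p _ => ?_
  by_cases h3 : (g' : Equiv.Perm (Fin 4060)) p = p
  · rw [if_pos h3, if_pos ((h p).2 h3)]
    refine congrArg Finset.card ?_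
    ext q
    rw [mem_filter, mem_filter, h]
  · rw [if_neg h3, if_neg (fun h4 => h3 ((h p).1 h4))]

theorem o1_fam (g : H) : o1 g = (fm (fam g)).O := by
  obtain ⟨j, hj⟩ := cover g
  rw [fam_eq hj, ← o1_conj hj]
  have h1 : o1 (R j) = o1 (X (rp j).i) := by
    apply o1_congr
    · exact pow_mem (Subgroup.mem_zpowers _) _
    · have h2 : (orderOf (X (rp j).i)).Coprime (rp j).k := by
        rw [order_X (rp_lt j)]
        exact cop j
      obtain ⟨m, hm⟩ := exists_pow_eq_self_of_coprime (x := X (rp j).i) (n := (rp j).k) h2.symm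
      have h3 : (X (rp j).i ^ (rp j).k) ^ m ∈ Subgroup.zpowers (X (rp j).i ^ (rp j).k) :=
        pow_mem (Subgroup.mem_zpowers _) m
      rwa [hm] at h3
  rw [h1]
  exact (hX (rp_lt j)).2.1

end Cfsg.Agent.H300.Ru
end

-- part: H300/Cls/Edge
section
/-!
# The permutation character on the edges of a graph (helper300)
-/

set_option autoImplicit false

namespace Cfsg.Agent.H300.Cls

open Cfsg Finset
open scoped Pointwise

variable {G : Type*} [Group G] {Y : Type*} [Fintype Y] [DecidableEq Y] [MulAction G Y] (A : Y → Y → Prop)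

omit [Fintype Y] in
theorem pair_eq {x y z w : Y} : ({x, y} : Finset Y) = {z, w} ↔ x = z ∧ y = w ∨ x = w ∧ y = z := by
  rw [← Finset.coe_inj, Finset.coe_pair, Finset.coe_pair, Set.pair_eq_pair_iff]

/-- the edges -/
def Edges (hA : ∀ (g : G) x y, A (g • x) (g • y) ↔ A x y) : SubMulAction G (Finset Y) where
  carrier := {s | ∃ p q, A p q ∧ s = {p, q}}
  smul_mem' := by
    rintro g _ ⟨p, q, h, rfl⟩
    refine ⟨g • p, g • q, (hA g p q).2 h, ?_⟩
    rw [smul_finset_insert, smul_finset_singleton]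

variable [DecidableRel A]

theorem card_fixed_edges (hs : ∀ x y, A x y → A y x) (hi : ∀ x, ¬ A x x) (hA : ∀ (g : G) x y, A (g • x) (g • y) ↔ A x y)
    (g : G) : 2 * Nat.card (MulAction.fixedBy (Edges A hA) g) =
      (∑ p : Y, if g • p = p then (univ.filter fun q : Y => g • q = q ∧ A p q).card else 0) +
      (univ.filter fun p : Y => A p (g • p) ∧ g • g • p = p).card := by
  classical
  let P1 : Finset (Y × Y) := univ.filter fun x => A x.1 x.2 ∧ g • x.1 = x.1 ∧ g • x.2 = x.2
  let P2 : Finset (Y × Y) := univ.filter fun x => A x.1 x.2 ∧ g • x.1 = x.2 ∧ g • x.2 = x.1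
  have h1 : P1.card = ∑ p : Y, if g • p = p then (univ.filter fun q : Y => g • q = q ∧ A p q).card else 0 := by
    rw [Finset.card_eq_sum_card_fiberwise (f := Prod.fst) (t := univ) (fun _ _ => Finset.mem_coe.2 (mem_univ _))]
    refine Finset.sum_congr rfl fun p _ => ?_
    split_ifs with h
    · apply Finset.card_bij (fun x _ => x.2)
      · intro x hx
        simp only [P1, mem_filter, mem_univ, true_and] at hx ⊢
        obtain ⟨⟨a, b, c⟩, rfl⟩ := hx
        exact ⟨c, a⟩
      · intro x hx y hy hxy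
        simp only [mem_filter] at hx hy
        exact Prod.ext (hx.2.trans hy.2.symm) hxy
      · intro q hq
        simp only [mem_filter, mem_univ, true_and] at hq
        exact ⟨(p, q), by simp only [P1, mem_filter, mem_univ, true_and]; exact ⟨⟨hq.2, h, hq.1⟩, trivial⟩, rfl⟩
    · rw [Finset.card_eq_zero, Finset.filter_eq_empty_iff]
      intro x hx h2
      simp only [P1, mem_filter, mem_univ, true_and] at hx
      rw [← h2] at h
      exact h hx.2.1
  have h2 : P2.card = (univ.filter fun p : Y => A p (g • p) ∧ g • g • p = p).card := by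
    apply Finset.card_bij (fun x _ => x.1)
    · intro x hx
      simp only [P2, mem_filter, mem_univ, true_and] at hx ⊢
      obtain ⟨a, b, c⟩ := hx
      rw [b]
      exact ⟨a, c⟩
    · intro x hx y hy hxy
      simp only [P2, mem_filter, mem_univ, true_and] at hx hy
      refine Prod.ext hxy ?_
      rw [← hx.2.1, ← hy.2.1, hxy]
    · intro p hp
      simp only [mem_filter, mem_univ, true_and] at hp
      exact ⟨(p, g • p), by simp only [P2, mem_filter, mem_univ, true_and]; exact hp, rfl⟩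
  have hd : Disjoint P1 P2 := by
    rw [Finset.disjoint_left]
    intro x hx hy
    simp only [P1, P2, mem_filter, mem_univ, true_and] at hx hy
    have h3 : x.1 = x.2 := hx.2.1.symm.trans hy.2.1
    have h4 := hx.1
    rw [h3] at h4
    exact hi _ h4
  rw [← h1, ← h2, ← Finset.card_union_of_disjoint hd]
  let F : Finset (Finset Y) := univ.filter fun s => (∃ p q, A p q ∧ s = {p, q}) ∧ g • s = s
  have h3 : Nat.card (MulAction.fixedBy (Edges A hA) g) = F.card := by
    rw [← Fintype.card_coe, ← Nat.card_eq_fintype_card]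
    refine Nat.card_congr
      { toFun := fun x => ⟨x.1.1, ?_⟩
        invFun := fun s => ⟨⟨s.1, ?_⟩, ?_⟩
        left_inv := fun x => rfl
        right_inv := fun s => rfl }
    · rw [mem_filter]
      exact ⟨mem_univ _, x.1.2, congrArg Subtype.val (MulAction.mem_fixedBy.1 x.2)⟩
    · exact (mem_filter.1 s.2).2.1
    · rw [MulAction.mem_fixedBy]
      exact Subtype.ext (mem_filter.1 s.2).2.2
  rw [h3, mul_comm]
  symm
  rw [Finset.card_eq_sum_card_fiberwise (f := fun x : Y × Y => ({x.1, x.2} : Finset Y)) (t := F)]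
  · rw [Finset.sum_congr rfl (g := fun _ => 2), Finset.sum_const, smul_eq_mul]
    intro s hs'
    simp only [F, mem_filter, mem_univ, true_and] at hs'
    obtain ⟨⟨p, q, hpq, rfl⟩, h4⟩ := hs'
    rw [smul_finset_insert, smul_finset_singleton, pair_eq] at h4
    have hne : p ≠ q := fun h => hi q (h ▸ hpq)
    have h5 : ((P1 ∪ P2).filter fun x : Y × Y => ({x.1, x.2} : Finset Y) = {p, q}) = {(p, q), (q, p)} := by
      ext x
      simp only [P1, P2, mem_filter, mem_union, mem_univ, true_and, mem_insert, mem_singleton, pair_eq, Prod.ext_iff]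
      constructor
      · rintro ⟨-, h⟩
        exact h
      · intro h
        refine ⟨?_, h⟩
        rcases h with ⟨h6, h7⟩ | ⟨h6, h7⟩
        · rw [h6, h7]
          rcases h4 with h4 | h4
          · exact Or.inl ⟨hpq, h4⟩
          · exact Or.inr ⟨hpq, h4⟩
        · rw [h6, h7]
          rcases h4 with h4 | h4
          · exact Or.inl ⟨hs _ _ hpq, h4.2, h4.1⟩
          · exact Or.inr ⟨hs _ _ hpq, h4.2, h4.1⟩
    rw [h5, Finset.card_pair]
    intro h
    exact hne (congrArg Prod.fst h)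
  · intro x hx
    simp only [P1, P2, F, coe_filter, coe_union, Set.mem_union, Set.mem_ofPred_eq, mem_univ, true_and] at hx ⊢
    rcases hx with ⟨h4, h5, h6⟩ | ⟨h4, h5, h6⟩
    · refine ⟨⟨_, _, h4, rfl⟩, ?_⟩
      rw [smul_finset_insert, smul_finset_singleton, h5, h6]
    · refine ⟨⟨_, _, h4, rfl⟩, ?_⟩
      rw [smul_finset_insert, smul_finset_singleton, h5, h6, Finset.pair_comm]

/-- the permutation character on the edges -/
theorem isCharacter_edges (hs : ∀ x y, A x y → A y x) (hi : ∀ x, ¬ A x x)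
    (hA : ∀ (g : G) x y, A (g • x) (g • y) ↔ A x y) (e : G → ℕ)
    (he : ∀ g : G, 2 * e g = (∑ p : Y, if g • p = p then (univ.filter fun q : Y => g • q = q ∧ A p q).card else 0) +
      (univ.filter fun p : Y => A p (g • p) ∧ g • g • p = p).card) : IsCharacter G (fun g => (e g : ℂ)) := by
  have h := Cfsg.Agent.S0157.isCharacter_fixedBy (G := G) (Edges A hA)
  have h0 : (fun g => (e g : ℂ)) = fun g : G => (Nat.card (MulAction.fixedBy (Edges A hA) g) : ℂ) := by
    funext g
    have h1 := card_fixed_edges A hs hi hA g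
    rw [← he g] at h1
    have h2 : Nat.card (MulAction.fixedBy (Edges A hA) g) = e g := by omega
    rw [h2]
  rw [h0]
  exact h

end Cfsg.Agent.H300.Cls
end

-- part: H300/Ru/Base
section
/-!
# The characters of degrees 783, 3276 and the edge character of the Rudvalis group (helper300)
-/

set_option autoImplicit false
set_option maxRecDepth 100000
set_option exponentiation.threshold 5000

namespace Cfsg.Agent.H300.Ru

open Cfsg Cfsg.Agent.Lib Cfsg.Agent.Lib.BitNet Cfsg.Agent.SporadicB Cfsg.Agent.SporadicB.RuData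
open Cfsg.Agent.SporadicB.RuOrder Cfsg.Agent.RuD.Data Cfsg.Agent.SporRec.TCUpperCert Cfsg.Agent.SporRec.R3.Kernel
open Cfsg.Agent.RuD.Letters Cfsg.Agent.KFacts.Ru.CentEng Finset

/-! ### the graph -/

theorem smul_def (g : H) (p : Fin 4060) : g • p = (g : Equiv.Perm (Fin 4060)) p := rfl

theorem adj_smul (g : H) (p q : Fin 4060) : Adj (g • p) (g • q) ↔ Adj p q := adj_iff g p q

theorem not_adj_self (p : Fin 4060) : ¬ Adj p p := by
  have ht := isPretransitive
  obtain ⟨c, rfl⟩ := MulAction.exists_smul_eq H b1 p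
  rw [adj_smul]
  have h : (row 0).testBit 0 = false := by decide +kernel
  intro h1
  have h2 : (row 0).testBit 0 = true := h1
  rw [h] at h2
  exact Bool.false_ne_true h2

/-! ### rank 3 -/

def cls (y : Fin 4060) : Fin 3 := if y = b1 then 0 else if Adj b1 y then 1 else 2

def r3 : Fin 3 → Fin 4060 := ![b1, Cfsg.Agent.H707.RowRu.p, b2]

def om (x y z : ℚ) (u v : Fin 4060) : ℚ := if u = v then x else if Adj u v then y else z

theorem om_smul (x y z : ℚ) (g : H) (u v : Fin 4060) : om x y z (g • u) (g • v) = om x y z u v := by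
  rw [om, om]
  simp only [adj_smul, (MulAction.injective g).eq_iff]

theorem om_symm (x y z : ℚ) (u v : Fin 4060) : om x y z u v = om x y z v u := by
  rw [om, om]
  have h : Adj u v ↔ Adj v u := ⟨adj_symm, adj_symm⟩
  simp only [h, eq_comm (a := u) (b := v)]

noncomputable def clsM (j : ℕ) : ℕ :=
  Nat.rec (motive := fun _ => ℕ) 1 (fun j _ => Nat.rec (motive := fun _ => ℕ) (row 0)
    (fun _ _ => Nat.xor (Nat.xor full 1) (row 0)) j) j

theorem clsM_iff (j : Fin 3) (y : Fin 4060) : (clsM j).testBit y = true ↔ cls y = j := by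
  have h0 : (row 0).testBit 0 = false := by decide +kernel
  have hone : (1 : ℕ).testBit y = true ↔ (y : ℕ) = 0 := by
    rw [Nat.testBit_one_eq_true_iff_self_eq_zero]
  have e0 : clsM 0 = 1 := rfl
  have e1 : clsM 1 = row 0 := rfl
  have e2 : (clsM 2).testBit y = ((true ^^ (1 : ℕ).testBit y) ^^ (row 0).testBit y) := by
    change ((full ^^^ 1) ^^^ (row 0)).testBit y = _
    rw [Nat.testBit_xor, Nat.testBit_xor, testBit_full]
  by_cases h1 : y = b1
  · have hy : (y : ℕ) = 0 := by rw [h1]; rfl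
    have hc : cls y = 0 := by rw [cls, if_pos h1]
    have h4 : (1 : ℕ).testBit y = true := hone.2 hy
    have h5 : (row 0).testBit y = false := by rw [hy]; exact h0
    rw [hc]
    fin_cases j
    · change (clsM 0).testBit y = true ↔ _
      rw [e0, h4]
      simp
    · change (clsM 1).testBit y = true ↔ _
      rw [e1, h5]
      simp
    · change (clsM 2).testBit y = true ↔ _
      rw [e2, h4, h5]
      simp
  · have hy : ¬ (y : ℕ) = 0 := fun h => h1 (Fin.ext h)
    have h4 : (1 : ℕ).testBit y = false := by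
      rw [← Bool.not_eq_true, hone]
      exact hy
    by_cases h2 : Adj b1 y
    · have hc : cls y = 1 := by rw [cls, if_neg h1, if_pos h2]
      have h5 : (row 0).testBit y = true := h2
      rw [hc]
      fin_cases j
      · change (clsM 0).testBit y = true ↔ _
        rw [e0, h4]
        simp
      · change (clsM 1).testBit y = true ↔ _
        rw [e1, h5]
        simp
      · change (clsM 2).testBit y = true ↔ _
        rw [e2, h4, h5]
        simp
    · have hc : cls y = 2 := by rw [cls, if_neg h1, if_neg h2]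
      have h5 : (row 0).testBit y = false := by rw [← Bool.not_eq_true]; exact h2
      rw [hc]
      fin_cases j
      · change (clsM 0).testBit y = true ↔ _
        rw [e0, h4]
        simp
      · change (clsM 1).testBit y = true ↔ _
        rw [e1, h5]
        simp
      · change (clsM 2).testBit y = true ↔ _
        rw [e2, h4, h5]
        simp

noncomputable def chkB (j c k0 k1 k2 : ℕ) : Bool :=
  Bool.rec false (Bool.rec false (Bool.rec false (Bool.rec false (Nat.beq (Nat.shiftRight (clsM j) 4060) 0)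
    (Nat.beq (popc 12 (Nat.land (row 29) (clsM j))) k2)) (Nat.beq (popc 12 (Nat.land (row 3) (clsM j))) k1))
    (Nat.beq (popc 12 (Nat.land (row 0) (clsM j))) k0)) (Nat.beq (popc 12 (clsM j)) c)

theorem kB0 : chkB 0 1 0 1 0 = true := by decide +kernel
theorem kB1 : chkB 1 1755 1755 730 780 = true := by decide +kernel
theorem kB2 : chkB 2 2304 0 1024 975 = true := by decide +kernel

def Bm : Fin 3 → Fin 3 → ℚ := ![![0, 1755, 0], ![1, 730, 1024], ![0, 780, 975]]

theorem clsM_ge {j : ℕ} (h : Nat.beq (Nat.shiftRight (clsM j) 4060) 0 = true) (i : ℕ) (hi : 4060 ≤ i) :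
    (clsM j).testBit i = false := by
  have h1 : (clsM j) >>> 4060 = 0 := Nat.eq_of_beq_eq_true h
  have h2 : ((clsM j) >>> 4060).testBit (i - 4060) = (clsM j).testBit i := by
    rw [Nat.testBit_shiftRight, Nat.add_sub_cancel' hi]
  rw [← h2, h1, Nat.zero_testBit]

theorem colB (j : Fin 3) {c k0 k1 k2 : ℕ} (h : chkB j c k0 k1 k2 = true) :
    (univ.filter fun y => cls y = j).card = c ∧
    (univ.filter fun y => Adj (r3 0) y ∧ cls y = j).card = k0 ∧
    (univ.filter fun y => Adj (r3 1) y ∧ cls y = j).card = k1 ∧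
    (univ.filter fun y => Adj (r3 2) y ∧ cls y = j).card = k2 := by
  obtain ⟨h1, h⟩ := and2 h
  obtain ⟨h2, h⟩ := and2 h
  obtain ⟨h3, h⟩ := and2 h
  obtain ⟨h4, h5⟩ := and2 h
  have hge := clsM_ge h5
  have key : ∀ (p : Fin 4060) (k : ℕ), Nat.beq (popc 12 (Nat.land (row p) (clsM j))) k = true →
      (univ.filter fun y => Adj p y ∧ cls y = j).card = k := by
    intro p k hk
    rw [← Nat.eq_of_beq_eq_true hk]
    refine (popc_eq_card (fun i => ?_) fun i hi => ?_).symm
    · rw [testBit_land, Bool.and_eq_true, clsM_iff]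
    · rw [testBit_land, hge i hi, Bool.and_false]
  refine ⟨?_, key b1 _ h2, key Cfsg.Agent.H707.RowRu.p _ h3, key b2 _ h4⟩
  rw [← Nat.eq_of_beq_eq_true h1]
  exact (popc_eq_card (fun i => clsM_iff j i) hge).symm

theorem hB (i j : Fin 3) : ∑ y ∈ univ.filter (fun y => cls y = j), om 0 1 0 (r3 i) y = Bm i j := by
  have h : ∑ y ∈ univ.filter (fun y => cls y = j), om 0 1 0 (r3 i) y =
      ((univ.filter fun y => Adj (r3 i) y ∧ cls y = j).card : ℚ) := by
    have h1 : ∀ y, om 0 1 0 (r3 i) y = if Adj (r3 i) y then 1 else 0 := by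
      intro y
      rw [om]
      split_ifs with h1 h2 h2
      · rw [h1] at h2
        exact absurd h2 (not_adj_self _)
      · rfl
      · rfl
      · rfl
    rw [Finset.sum_congr rfl fun y _ => h1 y, ← Finset.sum_filter, Finset.sum_const, nsmul_eq_mul, mul_one,
      Finset.filter_filter]
    refine congrArg (fun s : Finset (Fin 4060) => (s.card : ℚ)) ?_
    ext y
    simp only [mem_filter, mem_univ, true_and]
    exact and_comm
  rw [h]
  have c0 := colB 0 kB0
  have c1 := colB 1 kB1
  have c2 := colB 2 kB2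
  fin_cases i <;> fin_cases j
  · exact (congrArg (Nat.cast : ℕ → ℚ) c0.2.1).trans (by norm_num [Bm])
  · exact (congrArg (Nat.cast : ℕ → ℚ) c1.2.1).trans (by norm_num [Bm])
  · exact (congrArg (Nat.cast : ℕ → ℚ) c2.2.1).trans (by norm_num [Bm])
  · exact (congrArg (Nat.cast : ℕ → ℚ) c0.2.2.1).trans (by norm_num [Bm])
  · exact (congrArg (Nat.cast : ℕ → ℚ) c1.2.2.1).trans (by norm_num [Bm])
  · exact (congrArg (Nat.cast : ℕ → ℚ) c2.2.2.1).trans (by norm_num [Bm])
  · exact (congrArg (Nat.cast : ℕ → ℚ) c0.2.2.2).trans (by norm_num [Bm])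
  · exact (congrArg (Nat.cast : ℕ → ℚ) c1.2.2.2).trans (by norm_num [Bm])
  · exact (congrArg (Nat.cast : ℕ → ℚ) c2.2.2.2).trans (by norm_num [Bm])

def kk : Fin 3 → ℕ := ![1, 1755, 2304]

theorem hk (j : Fin 3) : (univ.filter fun y => cls y = j).card = kk j := by
  fin_cases j
  · exact (colB 0 kB0).1
  · exact (colB 1 kB1).1
  · exact (colB 2 kB2).1

theorem cls_smul (g : H) (hg : g ∈ MulAction.stabilizer H b1) (x : Fin 4060) : cls (g • x) = cls x := by
  have h1 : g • b1 = b1 := hg
  have h2 : Adj b1 (g • x) ↔ Adj b1 x := by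
    conv_lhs => rw [← h1]
    exact adj_smul g b1 x
  have h3 : g • x = b1 ↔ x = b1 := by
    conv_lhs => rw [← h1]
    exact (MulAction.injective g).eq_iff
  rw [cls, cls]
  simp only [h2, h3]

theorem htr (x : Fin 4060) : ∃ g ∈ MulAction.stabilizer H b1, g • r3 (cls x) = x := by
  have key : ∀ z, x ∈ MulAction.orbit H1 z → ∃ g ∈ MulAction.stabilizer H b1, g • z = x := by
    rintro z ⟨σ, rfl⟩
    exact ⟨⟨σ, σ.2.1⟩, σ.2.2, rfl⟩
  have h29 : (row 0).testBit 29 = false := Cfsg.Agent.H707.RowRu.row0.1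
  have h3 : (row 0).testBit 3 = true := Cfsg.Agent.H707.RowRu.row0.2
  have hb : ∀ z, x ∈ MulAction.orbit H1 z → (x = b1 ↔ z = b1) := by
    rintro z ⟨σ, rfl⟩
    have h3 : (σ : Equiv.Perm (Fin 4060)) b1 = b1 := σ.2.2
    constructor
    · intro h
      exact (σ : Equiv.Perm (Fin 4060)).injective (h.trans h3.symm)
    · rintro rfl
      exact h3
  rcases Cfsg.Agent.H707.RowRu.cover x with h | h | h
  · refine ⟨1, Subgroup.one_mem _, ?_⟩
    rw [one_smul, cls, if_pos h, h]
    rfl
  · have h1 : cls x = 2 := by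
      have h4 : ¬ x = b1 := by
        rw [hb _ h]
        decide
      have h5 : ¬ Adj b1 x := by
        have h6 : (row 0).testBit x = (row 0).testBit b2 := Cfsg.Agent.H707.RowRu.row_of_mem h
        intro h7
        have h8 : (row 0).testBit x = true := h7
        rw [h6] at h8
        have h9 : (row 0).testBit 29 = true := h8
        rw [h29] at h9
        exact Bool.false_ne_true h9
      rw [cls, if_neg h4, if_neg h5]
    rw [h1]
    exact key _ h
  · have h1 : cls x = 1 := by
      have h4 : ¬ x = b1 := by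
        rw [hb _ h]
        decide
      have h5 : Adj b1 x := by
        have h6 : (row 0).testBit x = (row 0).testBit Cfsg.Agent.H707.RowRu.p := Cfsg.Agent.H707.RowRu.row_of_mem h
        exact h6.trans h3
      rw [cls, if_neg h4, if_pos h5]
    rw [h1]
    exact key _ h

theorem om_r3 (x y z : ℚ) (i : Fin 3) : om x y z b1 (r3 i) = (![x, y, z] : Fin 3 → ℚ) i := by
  have h29 : (row 0).testBit 29 = false := Cfsg.Agent.H707.RowRu.row0.1
  have h3 : (row 0).testBit 3 = true := Cfsg.Agent.H707.RowRu.row0.2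
  rw [om]
  fin_cases i
  · exact if_pos rfl
  · have h1 : ¬ b1 = r3 1 := by decide
    have h2 : Adj b1 (r3 1) := h3
    exact (if_neg h1).trans (if_pos h2)
  · have h1 : ¬ b1 = r3 2 := by decide
    have h2 : ¬ Adj b1 (r3 2) := by
      intro h
      have h9 : (row 0).testBit 29 = true := h
      rw [h29] at h9
      exact Bool.false_ne_true h9
    exact (if_neg h1).trans (if_neg h2)

theorem inv_mem_zp (g : H) : g⁻¹ ∈ Subgroup.zpowers g ∧ g ∈ Subgroup.zpowers g⁻¹ := by
  refine ⟨inv_mem (Subgroup.mem_zpowers g), ?_⟩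
  have := inv_mem (Subgroup.mem_zpowers g⁻¹)
  rwa [inv_inv] at this

theorem a1_inv (g : H) : a1 g⁻¹ = a1 g := by
  rw [a1, a1]
  symm
  refine card_conj g _ _ fun p => ?_
  have h : ((g⁻¹ : H) : Equiv.Perm (Fin 4060)) ((g : Equiv.Perm (Fin 4060)) p) = p :=
    (g : Equiv.Perm (Fin 4060)).symm_apply_apply p
  rw [h]
  exact ⟨adj_symm, adj_symm⟩

/-- sum of a spherical function -/
theorem sum_om (x y z : ℚ) (g : H) : ∑ u : Fin 4060, om x y z u (g⁻¹ • u) =
    x * fixC g + y * a1 g + z * (4060 - fixC g - a1 g) := by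
  have h : ∀ u : Fin 4060, om x y z u (g⁻¹ • u) = (x - z) * (if ((g⁻¹ : H) : Equiv.Perm (Fin 4060)) u = u then 1 else 0) +
      (y - z) * (if Adj u (((g⁻¹ : H) : Equiv.Perm (Fin 4060)) u) then 1 else 0) + z := by
    intro u
    rw [om, smul_def]
    by_cases h1 : ((g⁻¹ : H) : Equiv.Perm (Fin 4060)) u = u
    · rw [h1, if_pos rfl, if_pos rfl, if_neg (not_adj_self u)]
      ring
    · rw [if_neg (fun h => h1 h.symm), if_neg h1]
      by_cases h2 : Adj u (((g⁻¹ : H) : Equiv.Perm (Fin 4060)) u)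
      · rw [if_pos h2, if_pos h2]
        ring
      · rw [if_neg h2, if_neg h2]
        ring
  rw [Finset.sum_congr rfl fun u _ => h u, Finset.sum_add_distrib, Finset.sum_add_distrib, ← Finset.mul_sum,
    ← Finset.mul_sum, Finset.sum_boole, Finset.sum_boole, Finset.sum_const, Finset.card_univ, Fintype.card_fin,
    nsmul_eq_mul]
  have h1 : ((univ.filter fun u : Fin 4060 => ((g⁻¹ : H) : Equiv.Perm (Fin 4060)) u = u).card : ℚ) = fixC g := by
    rw [fixC_congr (g := g) (g' := g⁻¹) (inv_mem_zp g).2 (inv_mem_zp g).1]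
    rfl
  have h2 : ((univ.filter fun u : Fin 4060 => Adj u (((g⁻¹ : H) : Equiv.Perm (Fin 4060)) u)).card : ℚ) = a1 g := by
    rw [← a1_inv g]
    rfl
  rw [h1, h2]
  push_cast
  ring

/-- the character for an eigenvalue -/
theorem char (y z t : ℚ) (L : Fin 3 → Fin 3 → ℚ) (d : ℕ)
    (hBa : ∀ i : Fin 3, ∑ j : Fin 3, Bm i j * (![1, y, z] : Fin 3 → ℚ) j = t * (![1, y, z] : Fin 3 → ℚ) i)
    (hL : ∀ i j : Fin 3, ∑ l : Fin 3, L i l * (Bm l j - if l = j then t else 0) =
      (if i = j then 1 else 0) - if j = 0 then (![1, y, z] : Fin 3 → ℚ) i else 0)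
    (hd : (d : ℚ) * ∑ j : Fin 3, (kk j : ℚ) * ((![1, y, z] : Fin 3 → ℚ) j * (![1, y, z] : Fin 3 → ℚ) j) = (4060 : ℕ)) :
    ∃ χ : H → ℂ, IsIrrCharacter H χ ∧ χ 1 = d ∧
      ∀ g : H, χ g = (((d : ℚ) / (4060 : ℕ) * (1 * fixC g + y * a1 g + z * (4060 - fixC g - a1 g)) : ℚ) : ℂ) := by
  have ht := isPretransitive
  obtain ⟨χ, h1, h2, h3⟩ := Cfsg.Agent.H300.K4.Val.exists_of_kernel_val (G := H) (X := Fin 4060) (n := 3) (om 0 1 0)
    (om_smul 0 1 0) b1 (MulAction.stabilizer H b1) (fun g hg => hg) cls r3 cls_smul htr Bm hB kk hk 0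
    (by rw [cls, if_pos rfl]) ![1, y, z] t L d 4060 (Fintype.card_fin _) rfl hBa hL hd (om 1 y z) (om_smul 1 y z)
    (om_symm 1 y z) (om_r3 1 y z)
  refine ⟨χ, h1, h2, fun g => ?_⟩
  rw [h3 g, sum_om]

/-- the table of values -/
theorem tab_of {d : ℕ} {y z : ℚ} {v : List ℤ} (h : ∀ i : Fin 28, (d : ℚ) / (4060 : ℕ) * (1 * (fx i 1 : ℚ) +
    y * ((fm i).A : ℚ) + z * (4060 - (fx i 1 : ℚ) - ((fm i).A : ℚ))) = (v.getD i 0 : ℤ)) {χ : H → ℂ}
    (hχ : ∀ g : H, χ g = (((d : ℚ) / (4060 : ℕ) * (1 * fixC g + y * a1 g + z * (4060 - fixC g - a1 g)) : ℚ) : ℂ)) :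
    χ = Cls.tv fam v := by
  funext g
  rw [hχ, fixC_fam, a1_fam, h ⟨fam g, fam_lt g⟩]
  simp [Cls.tv]

def va : List ℤ := [783, -1, 15, 0, -1, -1, 15, 15, 3, 8, 0, -1, -1, 3, 3, -1, 0, 0, 0, 3, -1, 0, 1, 0, 0, 0, -1, 0]

def vb : List ℤ := [3276, 0, 76, 9, 4, 8, 4, 16, -4, 1, 1, 0, 2, 0, 2, 0, 1, 1, 1, 0, 0, -1, 0, -1, 1, -1, 0, -1]

def ve : List ℤ := [3562650, 910, 2586, 0, 50, 38, 66, 366, 0, 25, 0, 0, 4, 6, 12, 0, 1, 0, 0, 0, 0, 0, 2, 1, 1, 0, 0, 0]

theorem irr_a : IsIrrCharacter H (Cls.tv fam va) := by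
  obtain ⟨χ, h1, -, h3⟩ := char (-1/27) (1/36) (-65) ![![0, 0, 0], ![1/1755, 0, 0], ![-53/119808, 1/1024, 0]] 783
    (by decide +kernel) (by decide +kernel) (by decide +kernel)
  rwa [tab_of (v := va) (by decide +kernel) h3] at h1

theorem irr_b : IsIrrCharacter H (Cls.tv fam vb) := by
  obtain ⟨χ, h1, -, h3⟩ := char (1/117) (-1/144) 15 ![![0, 0, 0], ![1/1755, 0, 0], ![-11/27648, 1/1024, 0]] 3276
    (by decide +kernel) (by decide +kernel) (by decide +kernel)
  rwa [tab_of (v := vb) (by decide +kernel) h3] at h1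

theorem eOk : ∀ i : Fin 28, 2 * (ve.getD i 0).toNat = (fm i).O + (fm i).S ∧ ((ve.getD i 0).toNat : ℤ) = ve.getD i 0 := by
  decide +kernel

theorem char_e : IsCharacter H (Cls.tv fam ve) := by
  have h := Cls.isCharacter_edges (G := H) Adj (fun x y => adj_symm) not_adj_self adj_smul
    (fun g => (ve.getD (fam g) 0).toNat) (by
      intro g
      have h1 := (eOk ⟨fam g, fam_lt g⟩).1
      have h2 : 2 * (ve.getD (fam g) 0).toNat = o1 g + sw g := by
        rw [o1_fam, sw_fam]
        exact h1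
      rw [h2]
      rfl)
  have h0 : Cls.tv fam ve = fun g : H => (((ve.getD (fam g) 0).toNat : ℕ) : ℂ) := by
    funext g
    rw [Cls.tv, ← (eOk ⟨fam g, fam_lt g⟩).2]
    push_cast
    rfl
  rw [h0]
  exact h

end Cfsg.Agent.H300.Ru
end

private theorem dce_935833201c9c : _root_.True := by
  try have : _root_.True := by simp only [_root_.Cfsg.Agent.H300.Ru.lk.eq_2]
  try have : _root_.True := by simp only [_root_.Cfsg.Agent.H300.Ru.cls.eq_1]
  try have : _root_.True := by simp only [_root_.Cfsg.Agent.H300.Ru.R.eq_1]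
  try have : _root_.True := by simp only [_root_.Cfsg.Agent.H300.Ru.rp.eq_1]
  try have : _root_.True := by simp only [_root_.Cfsg.Agent.H300.Ru.fx.eq_1]
  try have : _root_.True := by simp only [_root_.Cfsg.Agent.H300.Ru.om.eq_1]
  try have : _root_.True := by simp only [_root_.Cfsg.Agent.H300.Ru.a1.eq_1]
  try have : _root_.True := by simp only [_root_.Cfsg.Agent.H300.Ru.chkF.eq_1]
  try have : _root_.True := by simp only [_root_.Cfsg.Agent.H300.Ru.fam.eq_1]
  try have : _root_.True := by simp only [_root_.Cfsg.Agent.H300.Ru.chkR.eq_1]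
  try have : _root_.True := by simp only [_root_.Cfsg.Agent.H300.Ru.lk.eq_def]
  try have : _root_.True := by simp only [_root_.Cfsg.Agent.H300.Ru.lk.eq_1]
  try have : _root_.True := by simp only [_root_.Cfsg.Agent.H300.Ru.Bm.eq_1]
  try have : _root_.True := by simp only [_root_.Cfsg.Agent.H300.Ru.iiW.eq_1]
  try have : _root_.True := by simp only [_root_.Cfsg.Agent.H300.Ru.fm.eq_1]
  exact _root_.True.intro
end

-- part: H300/Ru/Theta
section
set_option linter.all false
open scoped Cfsg.Agent.FastGrp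

/-!
# Irreducible characters of degrees 20475 and 23751 of the Rudvalis group (helper300)

Generalized characters as tables of integers on the 28 families; all identities are checked by the kernel.
-/

set_option autoImplicit false
set_option maxRecDepth 100000

namespace Cfsg.Agent.H300.Ru

open Cfsg Cfsg.Agent.SporadicB.RuOrder Cfsg.Agent.H300.Cls

theorem fam_one : fam 1 = 0 := by
  have h : IsConj (R 0) 1 := by
    have h1 : R 0 = 1 := by
      rw [R]
      exact one_pow _
    rw [h1]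
  exact fam_eq h

def v0 : List ℤ := [1, 1, 1, 1, 1, 1, 1, 1, 1, 1, 1, 1, 1, 1, 1, 1, 1, 1, 1, 1, 1, 1, 1, 1, 1, 1, 1, 1]

theorem gc0 : GC fam v0 := by
  refine GC.of (Cfsg.Agent.Characters.Brauer.isGeneralizedCharacter_of_isCharacter
    Cfsg.Agent.Characters.Core.isCharacter_one) fun g => ?_
  have h : ∀ i : Fin 28, v0.getD i 0 = 1 := by decide +kernel
  have h1 := h ⟨fam g, fam_lt g⟩
  rw [tv, h1]
  simp

def v1 : List ℤ := [783, -1, 15, 0, -1, -1, 15, 15, 3, 8, 0, -1, -1, 3, 3, -1, 0, 0, 0, 3, -1, 0, 1, 0, 0, 0, -1, 0]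

theorem gc1 : GC fam v1 := by
  have h := Cfsg.Agent.Characters.Brauer.isGeneralizedCharacter_of_isCharacter (Cfsg.Agent.Characters.Core.isIrr_isCharacter irr_a)
  exact h

def v2 : List ℤ := [3276, 0, 76, 9, 4, 8, 4, 16, -4, 1, 1, 0, 2, 0, 2, 0, 1, 1, 1, 0, 0, -1, 0, -1, 1, -1, 0, -1]

theorem gc2 : GC fam v2 := by
  have h := Cfsg.Agent.Characters.Brauer.isGeneralizedCharacter_of_isCharacter (Cfsg.Agent.Characters.Core.isIrr_isCharacter irr_b)
  exact h

def v3 : List ℤ := [306153, -391, -279, 0, -7, -7, 105, 105, 3, 28, 0, 1, 1, 5, -3, -1, -4, 0, 0, 3, 1, 0, -1, 0, 0, 0, -1, 0]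

theorem gc3 : GC fam v3 := gc1.alt fam_lt fam_pow2 v3 (by decide +kernel)

def v4 : List ℤ := [5364450, -1638, 1250, 36, -30, -6, -30, 90, 10, 0, -4, 0, -2, -2, -6, 2, 0, 0, 0, 0, 0, 1, 0, 0, 0, 0, 0, 1]

theorem gc4 : GC fam v4 := gc2.alt fam_lt fam_pow2 v4 (by decide +kernel)

def v5 : List ℤ := [3562650, 910, 2586, 0, 50, 38, 66, 366, 0, 25, 0, 0, 4, 6, 12, 0, 1, 0, 0, 0, 0, 0, 2, 1, 1, 0, 0, 0]

theorem gc5 : GC fam v5 := by
  have h := Cfsg.Agent.Characters.Brauer.isGeneralizedCharacter_of_isCharacter char_e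
  exact h

def v6 : List ℤ := [783, 783, 783, 0, 15, 15, 15, 15, 3, 8, 0, -1, -1, -1, 15, 3, 8, 0, 0, 3, -1, 0, 3, 0, 0, 0, 3, 0]

theorem gc6 : GC fam v6 := gc1.psi fam_lt fam_pow2 v6 (by decide +kernel)

def v7 : List ℤ := [3276, 3276, 3276, 9, 76, 76, 76, 76, -4, 1, 9, 0, 8, 4, 16, -4, 1, 1, 1, 0, 0, -1, 0, 1, 1, 1, 0, -1]

theorem gc7 : GC fam v7 := gc2.psi fam_lt fam_pow2 v7 (by decide +kernel)

def v8 : List ℤ := [783, -1, 15, 783, -1, -1, 15, 15, 3, 8, 15, -1, -1, 3, 3, -1, 0, 15, 15, 3, -1, 3, 1, 0, 0, 3, -1, 0]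

theorem gc8 : GC fam v8 := gc1.psi fam_lt fam_pow3 v8 (by decide +kernel)

def v9 : List ℤ := [3276, 0, 76, 3276, 4, 8, 4, 16, -4, 1, 76, 0, 2, 0, 2, 0, 1, 4, 16, 0, 0, -4, 0, -1, 1, 2, 0, -1]

theorem gc9 : GC fam v9 := gc2.psi fam_lt fam_pow3 v9 (by decide +kernel)

def v10 : List ℤ := [783, -1, 15, 0, -1, -1, 15, 15, 783, 783, 0, -1, -1, 3, 3, -1, 15, 0, 0, 3, -1, 0, 1, 15, 15, 0, -1, 0]

theorem gc10 : GC fam v10 := gc1.psi fam_lt fam_pow5 v10 (by decide +kernel)

def v11 : List ℤ := [3276, 0, 76, 9, 4, 8, 4, 16, 3276, 3276, 1, 0, 2, 0, 2, 0, 76, 1, 1, 0, 0, 9, 0, 4, 16, -1, 0, -1]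

theorem gc11 : GC fam v11 := gc2.psi fam_lt fam_pow5 v11 (by decide +kernel)

def v12 : List ℤ := [783, -1, 15, 0, -1, -1, 15, 15, 3, 8, 0, 783, -1, 3, 3, -1, 0, 0, 0, 3, -1, 0, 1, 0, 0, 0, -1, 0]

theorem gc12 : GC fam v12 := gc1.psi fam_lt fam_pow7 v12 (by decide +kernel)

def v13 : List ℤ := [3276, 0, 76, 9, 4, 8, 4, 16, -4, 1, 1, 3276, 2, 0, 2, 0, 1, 1, 1, 0, 0, -1, 0, -1, 1, -1, 0, -1]

theorem gc13 : GC fam v13 := gc2.psi fam_lt fam_pow7 v13 (by decide +kernel)

def v14 : List ℤ := [2565108, 0, 1140, 0, -4, -8, 60, 240, -12, 8, 0, 0, -2, 0, 6, 0, 0, 0, 0, 0, 0, 0, 0, 0, 0, 0, 0, 0]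

theorem gc14 : GC fam v14 := gc1.mul fam_lt gc2 v14 (by decide +kernel)

def v15 : List ℤ := [239717799, 391, -4185, 0, 7, 7, 1575, 1575, 9, 224, 0, -1, -1, 15, -9, 1, 0, 0, 0, 9, -1, 0, -1, 0, 0, 0, 1, 0]

theorem gc15 : GC fam v15 := gc1.mul fam_lt gc3 v15 (by decide +kernel)

def v16 : List ℤ := [4200364350, 1638, 18750, 0, 30, 6, -450, 1350, 30, 0, 0, 0, 2, -6, -18, -2, 0, 0, 0, 0, 0, 0, 0, 0, 0, 0, 0, 0]

theorem gc16 : GC fam v16 := gc1.mul fam_lt gc4 v16 (by decide +kernel)

def v17 : List ℤ := [2789554950, -910, 38790, 0, -50, -38, 990, 5490, 0, 200, 0, 0, -4, 18, 36, 0, 0, 0, 0, 0, 0, 0, 2, 0, 0, 0, 0, 0]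

theorem gc17 : GC fam v17 := gc1.mul fam_lt gc5 v17 (by decide +kernel)

def v18 : List ℤ := [613089, -783, 11745, 0, -15, -15, 225, 225, 9, 64, 0, 1, 1, -3, 45, -3, 0, 0, 0, 9, 1, 0, 3, 0, 0, 0, -3, 0]

theorem gc18 : GC fam v18 := gc1.mul fam_lt gc6 v18 (by decide +kernel)

def v19 : List ℤ := [613089, 1, 225, 0, 1, 1, 225, 225, 2349, 6264, 0, 1, 1, 9, 9, 1, 0, 0, 0, 9, 1, 0, 1, 0, 0, 0, 1, 0]

theorem gc19 : GC fam v19 := gc1.mul fam_lt gc10 v19 (by decide +kernel)

def v20 : List ℤ := [2565108, -3276, 49140, 0, -76, -76, 1140, 1140, -12, 8, 0, 0, -8, 12, 48, 4, 0, 0, 0, 0, 0, 0, 0, 0, 0, 0, 0, 0]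

theorem gc20 : GC fam v20 := gc1.mul fam_lt gc7 v20 (by decide +kernel)

def v21 : List ℤ := [2565108, 0, 1140, 0, -4, -8, 60, 240, 9828, 26208, 0, 0, -2, 0, 6, 0, 0, 0, 0, 0, 0, 0, 0, 0, 0, 0, 0, 0]

theorem gc21 : GC fam v21 := gc1.mul fam_lt gc11 v21 (by decide +kernel)

def v22 : List ℤ := [1002957228, 0, -21204, 0, -28, -56, 420, 1680, -12, 28, 0, 0, 2, 0, -6, 0, -4, 0, 0, 0, 0, 0, 0, 0, 0, 0, 0, 0]

theorem gc22 : GC fam v22 := gc2.mul fam_lt gc3 v22 (by decide +kernel)

def v23 : List ℤ := [17573938200, 0, 95000, 324, -120, -48, -120, 1440, -40, 0, -4, 0, -4, 0, -12, 0, 0, 0, 0, 0, 0, -1, 0, 0, 0, 0, 0, -1]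

theorem gc23 : GC fam v23 := gc2.mul fam_lt gc4 v23 (by decide +kernel)

def v24 : List ℤ := [11671241400, 0, 196536, 0, 200, 304, 264, 5856, 0, 25, 0, 0, 8, 0, 24, 0, 1, 0, 0, 0, 0, 0, 0, -1, 1, 0, 0, 0]

theorem gc24 : GC fam v24 := gc2.mul fam_lt gc5 v24 (by decide +kernel)

def v25 : List ℤ := [2565108, 0, 59508, 0, 60, 120, 60, 240, -12, 8, 0, 0, -2, 0, 30, 0, 8, 0, 0, 0, 0, 0, 0, 0, 0, 0, 0, 0]

theorem gc25 : GC fam v25 := gc2.mul fam_lt gc6 v25 (by decide +kernel)

def v26 : List ℤ := [2565108, 0, 1140, 7047, -4, -8, 60, 240, -12, 8, 15, 0, -2, 0, 6, 0, 0, 15, 15, 0, 0, -3, 0, 0, 0, -3, 0, 0]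

theorem gc26 : GC fam v26 := gc2.mul fam_lt gc8 v26 (by decide +kernel)

def v27 : List ℤ := [2565108, 0, 1140, 0, -4, -8, 60, 240, -3132, 783, 0, 0, -2, 0, 6, 0, 15, 0, 0, 0, 0, 0, 0, -15, 15, 0, 0, 0]

theorem gc27 : GC fam v27 := gc2.mul fam_lt gc10 v27 (by decide +kernel)

def v28 : List ℤ := [10732176, 0, 248976, 81, 304, 608, 304, 1216, 16, 1, 9, 0, 16, 0, 32, 0, 1, 1, 1, 0, 0, 1, 0, -1, 1, -1, 0, 1]

theorem gc28 : GC fam v28 := gc2.mul fam_lt gc7 v28 (by decide +kernel)

def v29 : List ℤ := [10732176, 0, 5776, 29484, 16, 64, 16, 256, 16, 1, 76, 0, 4, 0, 4, 0, 1, 4, 16, 0, 0, 4, 0, 1, 1, -2, 0, 1]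

theorem gc29 : GC fam v29 := gc2.mul fam_lt gc9 v29 (by decide +kernel)

def v30 : List ℤ := [93729659409, 152881, 77841, 0, 49, 49, 11025, 11025, 9, 784, 0, 1, 1, 25, 9, 1, 16, 0, 0, 9, 1, 0, 1, 0, 0, 0, 1, 0]

theorem gc30 : GC fam v30 := gc3.mul fam_lt gc3 v30 (by decide +kernel)

def v31 : List ℤ := [1642342460850, 640458, -348750, 0, 210, 42, -3150, 9450, 30, 0, 0, 0, -2, -10, 18, -2, 0, 0, 0, 0, 0, 0, 0, 0, 0, 0, 0, 0]

theorem gc31 : GC fam v31 := gc3.mul fam_lt gc4 v31 (by decide +kernel)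

def v32 : List ℤ := [1090715985450, -355810, -721494, 0, -350, -266, 6930, 38430, 0, 700, 0, 0, 4, 30, -36, 0, -4, 0, 0, 0, 0, 0, -2, 0, 0, 0, 0, 0]

theorem gc32 : GC fam v32 := gc3.mul fam_lt gc5 v32 (by decide +kernel)

def v33 : List ℤ := [28777323802500, 2683044, 1562500, 1296, 900, 36, 900, 8100, 100, 0, 16, 0, 4, 4, 36, 4, 0, 0, 0, 0, 0, 1, 0, 0, 0, 0, 0, 1]

theorem gc33 : GC fam v33 := gc4.mul fam_lt gc4 v33 (by decide +kernel)

def v34 : List ℤ := [19111657792500, -1490580, 3232500, 0, -1500, -228, -1980, 32940, 0, 0, 0, 0, -8, -12, -72, 0, 0, 0, 0, 0, 0, 0, 0, 0, 0, 0, 0, 0]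

theorem gc34 : GC fam v34 := gc4.mul fam_lt gc5 v34 (by decide +kernel)

def u0 : List ℤ := [75110, 182, -154, -4, 6, 6, 54, 6, 10, -15, -4, 0, -2, -2, -2, 2, 1, 0, 0, -4, 0, 1, 2, -1, 1, -2, 0, 0]

private noncomputable def _root_.Cfsg.Agent.LsF.f56885f_0 : {f // @Cfsg.Agent.H300.Cls.chkAll = f} := ⟨_, by first | (delta Cfsg.Agent.H300.Cls.chkAll; rewrite [Cfsg.Agent.LsF.all_eq, Cfsg.Agent.LsF.range_eq]; exact rfl) | exact rfl⟩
private noncomputable def _root_.Cfsg.Agent.LsF.f56885f_1 : {f // @Cfsg.Agent.H300.Cls.lc = f} := ⟨_, by first | (delta Cfsg.Agent.H300.Cls.lc List.brecOn List.brecOn.go Cfsg.Agent.H300.Cls.lc._f; rewrite [Cfsg.Agent.LsF.iadd_pat, Cfsg.Agent.LsF.imul_pat, Cfsg.Agent.LsF.getD_eq]; (try delta Cfsg.Agent.H300.Cls.lc.match_1); (try delta List.casesOn); first | dsimp -zeta only | exact rfl) | exact rfl⟩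
theorem gu0 : GC fam u0 := GC.lin fam_lt [
    (2429824754942647563864557821480534037017401289142498393, v0),
    (-7073649809950090591111767419553913031029624971841557312477, v1),
    (1695771798233301840111754167251423109552204358902446500089, v2),
    (61583915634550420025292162277401879628154431307278547343, v3),
    (-78714072901790414864911173415716943954025351763893791, v4),
    (-384556613295875097514067307846286881258581748710128908, v5),
    (30306529675352653315364785638919471059038233719697385522, v6),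
    (52049741570360741557349875280086994129456409888898843, v7),
    (-175273399958649489336565629452711773719774113899554731, v8),
    (-41716265807379539806561925062393439585857048336060157, v9),
    (-133604404761398804399658737411985878591314984113865971, v10),
    (-13496807760353068171952125279693941060440823694933892, v11),
    (7076244128577407608965882841902948931645526828375468157618, v12),
    (-1693460133334764214111493329686175812701493599953103490712, v13),
    (-6026864788748671503511553514947218669721726366490366494, v14),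
    (-120086340475098547014353734268474344804567539462580463, v15),
    (210432213415617000586740013847292687626914641804155542, v16),
    (-384556613295875097514067307846272644812956115550417592, v17),
    (-545471312160105970788472366915705927441265703673178381, v18),
    (-30996384919858437289638617845144508144647206567040971158, v19),
    (196622884729064449283175468911591809919887455727733839, v20),
    (7348139473441256770216117183824744464765157353789954219, v21),
    (1190388043979286568332358273611753452990262749782664351, v22),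
    (-14162793426546788046540558092062795302307174514190306, v23),
    (-62611212636868298732835672373820230671946186084975361, v24),
    (1181848222114847992737115576185049870005272905734519542, v25),
    (-136830227545067303629948863593571364749529429543880724, v26),
    (-135191226586448693978443431673262844688845873314961974, v27),
    (-98488174734529343013075741033976863757622673027940896, v28),
    (41716265807379539806561925062393439585857048336060157, v29),
    (84741073290425333301, v30),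
    (-77901890379338, v31),
    (79923258, v32),
    (2, v33)]
    (List.forall_mem_cons.2 ⟨gc0, List.forall_mem_cons.2 ⟨gc1, List.forall_mem_cons.2 ⟨gc2, List.forall_mem_cons.2
    ⟨gc3, List.forall_mem_cons.2 ⟨gc4, List.forall_mem_cons.2 ⟨gc5, List.forall_mem_cons.2 ⟨gc6,
    List.forall_mem_cons.2 ⟨gc7, List.forall_mem_cons.2 ⟨gc8, List.forall_mem_cons.2 ⟨gc9, List.forall_mem_cons.2
    ⟨gc10, List.forall_mem_cons.2 ⟨gc11, List.forall_mem_cons.2 ⟨gc12, List.forall_mem_cons.2 ⟨gc13,
    List.forall_mem_cons.2 ⟨gc14, List.forall_mem_cons.2 ⟨gc15, List.forall_mem_cons.2 ⟨gc16,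
    List.forall_mem_cons.2 ⟨gc17, List.forall_mem_cons.2 ⟨gc18, List.forall_mem_cons.2 ⟨gc19,
    List.forall_mem_cons.2 ⟨gc20, List.forall_mem_cons.2 ⟨gc21, List.forall_mem_cons.2 ⟨gc22,
    List.forall_mem_cons.2 ⟨gc23, List.forall_mem_cons.2 ⟨gc24, List.forall_mem_cons.2 ⟨gc25,
    List.forall_mem_cons.2 ⟨gc26, List.forall_mem_cons.2 ⟨gc27, List.forall_mem_cons.2 ⟨gc28,
    List.forall_mem_cons.2 ⟨gc29, List.forall_mem_cons.2 ⟨gc30, List.forall_mem_cons.2 ⟨gc31,
    List.forall_mem_cons.2 ⟨gc32, List.forall_mem_cons.2 ⟨gc33, fun _ h => absurd h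
    List.not_mem_nil⟩⟩⟩⟩⟩⟩⟩⟩⟩⟩⟩⟩⟩⟩⟩⟩⟩⟩⟩⟩⟩⟩⟩⟩⟩⟩⟩⟩⟩⟩⟩⟩⟩⟩) u0 (by ((try (rewrite [Cfsg.Agent.LsF.f56885f_0.2, Cfsg.Agent.LsF.f56885f_1.2, Cfsg.Agent.LsF.ineg_pat, Cfsg.Agent.LsF.getD_eq, Cfsg.Agent.LsF.instIDecEq_eq, Cfsg.Agent.LsF.decide_eq])); decide +kernel))

def v35 : List ℤ := [2820718495, -20993, -25697, 10, 95, 95, 1535, 95, 45, 120, 10, 0, -1, -1, -1, -3, 8, 2, 2, 10, 0, 0, 3, 0, 0, 2, 2, 0]

theorem gc35 : GC fam v35 := gu0.alt fam_lt fam_pow2 v35 (by decide +kernel)

def u1 : List ℤ := [-21140, -28, -404, 28, -4, -12, -36, 36, 10, -15, 4, 0, 0, 4, 0, 2, 1, 0, 0, -2, 0, -2, 0, -1, 1, 0, -2, 1]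

theorem gu1 : GC fam u1 := GC.lin fam_lt [
    (2099599052534493823752340948431144025874684369161413828872314, v0),
    (-6112304358049298107736595818353278876240134163759512658989126365, v1),
    (1465307674408558050843006355058917919616030270620668278458125264, v2),
    (53214344225708670565895217869952464797209887731335081750209662, v3),
    (-68016424867492609616131210066711762034844763849650678148018, v4),
    (-332293388352178064905098002734622112058583454758346036138069, v5),
    (26187716156295757599133783023141048811498813326596645795411495, v6),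
    (44975913535943108735755487233379787395745150629058423163825, v7),
    (-151452841913435047788325282716528257129860951047815746157579, v8),
    (-36046810366173323143841852360748950259132536750307583424590, v9),
    (-115446877837940664478401495068573728134270552732951856824232, v10),
    (-11662522051532222355081785926204472945692031078815594695918, v11),
    (6114546095409495497104249029137131512448914692422352150032184052, v12),
    (-1463310176679195503580504041161022926056150524682272309409411568, v13),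
    (-5207782814159736384966266443667299505223117438686498775269842, v14),
    (-103765988131848948269620530185503079440318027031257205200665, v15),
    (181833391486948795526914718882482716599187922611181587830734, v16),
    (-332293388352178064905098002734609810419263073503002286776210, v17),
    (-471338950624502157948636176927935126826289552586523682293668, v18),
    (-26783816519008739925448276142432593813907714942101314939154556, v19),
    (169900821713163811307278451707977026712727836548407492569760, v20),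
    (6349489462129023270210649371729824466077149421147424391154992, v21),
    (1028608176043663950821609451863482074799389154787089708565335, v22),
    (-12237996834599404005830496765948756769723823375434647148301, v23),
    (-54102026272881267820888030903172368361938522825617337759175, v24),
    (1021228959966901326887744032213458025149865643959177386630109, v25),
    (-118234294686195809350914197749045266430569314476585894961458, v26),
    (-116818042401820681457357130561609023785766216540369964672404, v27),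
    (-85103124386989115546736340649710046798029444241601089268362, v28),
    (36046810366173323143841852360748950259132536750307583424590, v29),
    (73224324852815455072652954, v30),
    (-67314622134123710506, v31),
    (69061275481257, v32),
    (1728189, v33),
    (1, v34)]
    (List.forall_mem_cons.2 ⟨gc0, List.forall_mem_cons.2 ⟨gc1, List.forall_mem_cons.2 ⟨gc2, List.forall_mem_cons.2
    ⟨gc3, List.forall_mem_cons.2 ⟨gc4, List.forall_mem_cons.2 ⟨gc5, List.forall_mem_cons.2 ⟨gc6,
    List.forall_mem_cons.2 ⟨gc7, List.forall_mem_cons.2 ⟨gc8, List.forall_mem_cons.2 ⟨gc9, List.forall_mem_cons.2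
    ⟨gc10, List.forall_mem_cons.2 ⟨gc11, List.forall_mem_cons.2 ⟨gc12, List.forall_mem_cons.2 ⟨gc13,
    List.forall_mem_cons.2 ⟨gc14, List.forall_mem_cons.2 ⟨gc15, List.forall_mem_cons.2 ⟨gc16,
    List.forall_mem_cons.2 ⟨gc17, List.forall_mem_cons.2 ⟨gc18, List.forall_mem_cons.2 ⟨gc19,
    List.forall_mem_cons.2 ⟨gc20, List.forall_mem_cons.2 ⟨gc21, List.forall_mem_cons.2 ⟨gc22,
    List.forall_mem_cons.2 ⟨gc23, List.forall_mem_cons.2 ⟨gc24, List.forall_mem_cons.2 ⟨gc25,
    List.forall_mem_cons.2 ⟨gc26, List.forall_mem_cons.2 ⟨gc27, List.forall_mem_cons.2 ⟨gc28,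
    List.forall_mem_cons.2 ⟨gc29, List.forall_mem_cons.2 ⟨gc30, List.forall_mem_cons.2 ⟨gc31,
    List.forall_mem_cons.2 ⟨gc32, List.forall_mem_cons.2 ⟨gc33, List.forall_mem_cons.2 ⟨gc34, fun _ h => absurd h
    List.not_mem_nil⟩⟩⟩⟩⟩⟩⟩⟩⟩⟩⟩⟩⟩⟩⟩⟩⟩⟩⟩⟩⟩⟩⟩⟩⟩⟩⟩⟩⟩⟩⟩⟩⟩⟩⟩) u1 (by ((try (rewrite [Cfsg.Agent.LsF.f56885f_0.2, Cfsg.Agent.LsF.f56885f_1.2, Cfsg.Agent.LsF.ineg_pat, Cfsg.Agent.LsF.getD_eq, Cfsg.Agent.LsF.instIDecEq_eq, Cfsg.Agent.LsF.decide_eq])); decide +kernel))

def v36 : List ℤ := [223460370, 10962, 92178, 378, 210, 274, 850, 850, 45, 120, -6, 0, 6, 10, -18, -3, 8, -2, -2, 3, 0, 3, -2, 0, 0, 0, 3, 0]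

theorem gc36 : GC fam v36 := gu1.alt fam_lt fam_pow2 v36 (by decide +kernel)

def u2 : List ℤ := [-421748, 128, 12, 19, 4, -8, 20, 32, 2, 2, 3, 2, -2, 0, -2, -2, 2, -1, -1, -2, 2, -1, 0, 0, 2, 1, -2, -1]

theorem gu2 : GC fam u2 := GC.lin fam_lt [
    (1214912407873277004237138228787013641792034432591861353, v0),
    (-3536824993480510636468634601314998855244541541750551855874, v1),
    (847885920334137811125727584647151791957556621785471249813, v2),
    (30791958587812804775179873550391649510433808353700867728, v3),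
    (-39357037435765230436979386800842168559281690131542688, v4),
    (-192278311459507660950218917042199832500745587788557446, v5),
    (15153265216871449946404177410786143898512942167176241248, v6),
    (26024871436426435021079317753189757396103272870970622, v7),
    (-87636702172344507026810297977720927200614856818519571, v8),
    (-20858133425643445412329654721662587470347699762783867, v9),
    (-66802204052356938648709898144943898081102926135374657, v10),
    (-6748404049048514398967981204550768294119592540643854, v11),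
    (3538122152826629244993824769643624494436209513110406916332, v12),
    (-846730087855945460340402508974542614053109968949499091088, v13),
    (-3013432469782432986742670672226456646847280292567728172, v14),
    (-60043171740068868113864410379078498991734630332710698, v15),
    (105216109340735132435886751388301142600155071348715733, v16),
    (-192278311459507660950218917042192714277754644883713959, v17),
    (-272735662904986875242691569599220106199829324840547964, v18),
    (-15498192847755806746369359076669403322489090053199967850, v19),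
    (98311444824676616457512386847761412975802178138017643, v20),
    (3674069828660506801486248996414415325378676493205075195, v21),
    (595194036883771577094639492534308949321649741745626784, v22),
    (-7081396890478183123875737763862174101864984506682119, v23),
    (-31305607101825278255785946985356128239636113344351006, v24),
    (590924125844702087725338969710966008829608413636848698, v25),
    (-68415115484552664198710925882898313240318099095098017, v26),
    (-67595614984736188897443020242620843349684990495405180, v27),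
    (-49244088599548141801506880035541928726676610190083027, v28),
    (20858133425643445412329654721662587470347699762783867, v29),
    (42370537705492483515, v30),
    (-38950946164377, v31),
    (39961630, v32),
    (1, v33)]
    (List.forall_mem_cons.2 ⟨gc0, List.forall_mem_cons.2 ⟨gc1, List.forall_mem_cons.2 ⟨gc2, List.forall_mem_cons.2
    ⟨gc3, List.forall_mem_cons.2 ⟨gc4, List.forall_mem_cons.2 ⟨gc5, List.forall_mem_cons.2 ⟨gc6,
    List.forall_mem_cons.2 ⟨gc7, List.forall_mem_cons.2 ⟨gc8, List.forall_mem_cons.2 ⟨gc9, List.forall_mem_cons.2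
    ⟨gc10, List.forall_mem_cons.2 ⟨gc11, List.forall_mem_cons.2 ⟨gc12, List.forall_mem_cons.2 ⟨gc13,
    List.forall_mem_cons.2 ⟨gc14, List.forall_mem_cons.2 ⟨gc15, List.forall_mem_cons.2 ⟨gc16,
    List.forall_mem_cons.2 ⟨gc17, List.forall_mem_cons.2 ⟨gc18, List.forall_mem_cons.2 ⟨gc19,
    List.forall_mem_cons.2 ⟨gc20, List.forall_mem_cons.2 ⟨gc21, List.forall_mem_cons.2 ⟨gc22,
    List.forall_mem_cons.2 ⟨gc23, List.forall_mem_cons.2 ⟨gc24, List.forall_mem_cons.2 ⟨gc25,
    List.forall_mem_cons.2 ⟨gc26, List.forall_mem_cons.2 ⟨gc27, List.forall_mem_cons.2 ⟨gc28,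
    List.forall_mem_cons.2 ⟨gc29, List.forall_mem_cons.2 ⟨gc30, List.forall_mem_cons.2 ⟨gc31,
    List.forall_mem_cons.2 ⟨gc32, List.forall_mem_cons.2 ⟨gc33, fun _ h => absurd h
    List.not_mem_nil⟩⟩⟩⟩⟩⟩⟩⟩⟩⟩⟩⟩⟩⟩⟩⟩⟩⟩⟩⟩⟩⟩⟩⟩⟩⟩⟩⟩⟩⟩⟩⟩⟩⟩) u2 (by ((try (rewrite [Cfsg.Agent.LsF.f56885f_0.2, Cfsg.Agent.LsF.f56885f_1.2, Cfsg.Agent.LsF.ineg_pat, Cfsg.Agent.LsF.getD_eq, Cfsg.Agent.LsF.instIDecEq_eq, Cfsg.Agent.LsF.decide_eq])); decide +kernel))

def v37 : List ℤ := [88935898626, 219066, 210946, 171, 2, 26, 194, 506, 1, 1, -5, 1, 6, -2, -14, 1, 1, -1, -1, 3, 1, 1, 0, -1, 1, 1, 3, 1]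

theorem gc37 : GC fam v37 := gu2.alt fam_lt fam_pow2 v37 (by decide +kernel)

def u3 : List ℤ := [-73283, -63, 61, 22, 5, 9, -11, 1, 2, 17, -2, 0, -1, 5, 3, 2, 1, -2, -2, -2, 0, 2, -1, -1, 1, 0, 2, 0]

theorem gu3 : GC fam u3 := GC.lin fam_lt [
    (181683114618998463951689430416643751365671024972991818021686979345152833, v0),
    (-528911694796752280295074937775345574488614112695720326163524847887164051758, v1),
    (126796428985002335786971654391393334935894508835934777096422118833607567679, v2),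
    (4604759079912678572233070146586410692776097507226490828699530436445112943, v3),
    (-5885617018286466276353936254312975090348521718470451166249200739208450, v4),
    (-28754107928486168601331924345963310110839645703343374519403639887048438, v5),
    (2266083055377028539228378369837657293304175165952896856490712266929057267, v6),
    (3891868804275272875664214936239220650789405945101016721898478502007614, v7),
    (-13105561275385274305198539037451449497818029375773906804365228885979524, v8),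
    (-3119213057131619311436073164162635365492808908298155143968326342617186, v9),
    (-9989882741334251990372643230314233711270303629387648220617000018351469, v10),
    (-1009184743190540768186814571636879160205903968223289205889514402745716, v11),
    (529105677464665368493409901734334539467302454339552997946620201236737885771, v12),
    (-126623580931714789041157925201379206026362980525704990961584321663492827364, v13),
    (-450641374025048250619518995377377350619063426571449027040860962314181278, v14),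
    (-8979108602928188344517635325259160989954915456778083242351233228101055, v15),
    (15734459808983837342409575122397784756317298802905294225947794035343498, v16),
    (-28754107928486168601331924345962245621815444408756108017770155538379967, v17),
    (-40786038880774841060415521118177633578851045388737599480228567889762344, v18),
    (-2317664984980433172201090544651279389105712456887725459537588856497613191, v19),
    (14701907217910424685045970624594600574119403761578656503925053788156915, v20),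
    (549435865065555461595852516753418982146259608463494089774224712849230248, v21),
    (89007821241198491841820846696405156177947838288826180085777081623777786, v22),
    (-1058981894149495273680265902941824423534715879764855329997867963655647, v23),
    (-4681572240466834713342425980613879385301638067704264014729806451215976, v24),
    (88369280773839048570468236091027212201854723768205504882879951565535728, v25),
    (-10231084305090504909615774614582442634185424786588560536060290876501546, v26),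
    (-10108532751354119568609899161644299960784494313348354011643442247443840, v27),
    (-7364168260493253650681316014866620407731024744218670269110317192775255, v28),
    (3119213057131619311436073164162635365492808908298155143968326342617186, v29),
    (6336268531400609413615332162967568992, v30),
    (-5824888420465529055539987257161, v31),
    (5976030334862854820472385, v32),
    (149544152151943067, v33),
    (86532287265, v34),
    (35480788, v35),
    (62660, v36),
    (-1, v37)]
    (List.forall_mem_cons.2 ⟨gc0, List.forall_mem_cons.2 ⟨gc1, List.forall_mem_cons.2 ⟨gc2, List.forall_mem_cons.2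
    ⟨gc3, List.forall_mem_cons.2 ⟨gc4, List.forall_mem_cons.2 ⟨gc5, List.forall_mem_cons.2 ⟨gc6,
    List.forall_mem_cons.2 ⟨gc7, List.forall_mem_cons.2 ⟨gc8, List.forall_mem_cons.2 ⟨gc9, List.forall_mem_cons.2
    ⟨gc10, List.forall_mem_cons.2 ⟨gc11, List.forall_mem_cons.2 ⟨gc12, List.forall_mem_cons.2 ⟨gc13,
    List.forall_mem_cons.2 ⟨gc14, List.forall_mem_cons.2 ⟨gc15, List.forall_mem_cons.2 ⟨gc16,
    List.forall_mem_cons.2 ⟨gc17, List.forall_mem_cons.2 ⟨gc18, List.forall_mem_cons.2 ⟨gc19,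
    List.forall_mem_cons.2 ⟨gc20, List.forall_mem_cons.2 ⟨gc21, List.forall_mem_cons.2 ⟨gc22,
    List.forall_mem_cons.2 ⟨gc23, List.forall_mem_cons.2 ⟨gc24, List.forall_mem_cons.2 ⟨gc25,
    List.forall_mem_cons.2 ⟨gc26, List.forall_mem_cons.2 ⟨gc27, List.forall_mem_cons.2 ⟨gc28,
    List.forall_mem_cons.2 ⟨gc29, List.forall_mem_cons.2 ⟨gc30, List.forall_mem_cons.2 ⟨gc31,
    List.forall_mem_cons.2 ⟨gc32, List.forall_mem_cons.2 ⟨gc33, List.forall_mem_cons.2 ⟨gc34,
    List.forall_mem_cons.2 ⟨gc35, List.forall_mem_cons.2 ⟨gc36, List.forall_mem_cons.2 ⟨gc37, fun _ h => absurd h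
    List.not_mem_nil⟩⟩⟩⟩⟩⟩⟩⟩⟩⟩⟩⟩⟩⟩⟩⟩⟩⟩⟩⟩⟩⟩⟩⟩⟩⟩⟩⟩⟩⟩⟩⟩⟩⟩⟩⟩⟩⟩) u3 (by ((try (rewrite [Cfsg.Agent.LsF.f56885f_0.2, Cfsg.Agent.LsF.f56885f_1.2, Cfsg.Agent.LsF.ineg_pat, Cfsg.Agent.LsF.getD_eq, Cfsg.Agent.LsF.instIDecEq_eq, Cfsg.Agent.LsF.decide_eq])); decide +kernel))

def v38 : List ℤ := [2685235686, 38626, 38502, 231, -18, 10, 30, -30, 1, 136, -9, 0, -4, 10, 4, 1, -8, 3, 3, 3, 0, 1, -2, 0, 0, 1, 3, 0]

theorem gc38 : GC fam v38 := gu3.alt fam_lt fam_pow2 v38 (by decide +kernel)

/-- the table of the irreducible character of degree 20475 -/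
def th1 : List ℤ := [20475, 91, -5, 9, -5, -5, -5, -5, 5, 0, 1, 0, -1, 3, -1, 1, 0, 1, 1, 0, 0, -1, -1, 0, 0, -1, 0, 1]

theorem gc_th1 : GC fam th1 := GC.lin fam_lt [
    (138073856035167040345651965794476337429216580840545907512541220628197634811, v0),
    (-401957426565640838307255560111097139197101178332420943683704661523170456734075, v1),
    (96361579435504524379619217084009544203188242554563553015367681258259768986486, v2),
    (3499482291515089613821305356250869088767881966017433211646354442611532695962, v3),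
    (-4472896881832938768665067994892246544019889321535510048525668795947826990, v4),
    (-21852281467450661115839310355745555316597666678267230751209511535139577830, v5),
    (1722156878518973623389517743480602147161016487718868414480514433887803149960, v6),
    (2957706521688338768291496891338897561473943733128112549416455612026492905, v7),
    (-9959843459268750251461089810858999313310696284372539095865051001857767689, v8),
    (-2370510740618756468787097330943600854207227675660919635379381140106195854, v9),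
    (-7592018852867841963462813682988676907449927135914676263815978967426503278, v10),
    (-766950903700584501494904441618312691655117853234756498888786133379319657, v11),
    (402104847722631222603453991028972726468882880208004486518546652167725084663777, v12),
    (-96230219967809181477749673066762703770330945690804492500165010775182071543468, v13),
    (-342474270826474981853775298996173857275097204027284086319383592228857057219, v14),
    (-6823860055265662376847179471504204479026024208695659865301786736265051710, v15),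
    (11957729495185447209988121427921830295072962618713960635190789192161597522, v16),
    (-21852281467450661115839310355744746336057087506554376411048886402558851355, v17),
    (-30996197266204014709558524380584499462437507394196021275313680772577828587, v18),
    (-1761357637142096974461221219273923393307108181861088347832120226773907016543, v19),
    (11173019710197531757618091602745935981018156330791474948309110791353114765, v20),
    (417555195994455179048139113120033006392706078148740456460042733030925286617, v21),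
    (67643342210603009290840385332179532667149965685654755125757054016422743617, v22),
    (-804795282727699548807096247749491933976862325035004411504625094855125260, v23),
    (-3557858048085544604460691622319609664141417659726964499286842825509183910, v24),
    (67158070121627071927766910623059499113155145892739798734792178852004905630, v25),
    (-7775324990366518985536576621032839910413300443833221488068909166195488401, v26),
    (-7682189392031095724019948175413838625903012783190048137862771439615283349, v27),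
    (-5596552603968657927027579012659766800472319556413370006729970717576894317, v28),
    (2370510740618756468787097330943600854207227675660919635379381140106195854, v29),
    (4815378858070733624046060506043636272102, v30),
    (-4426744922745658632779563801570438, v31),
    (4541608359411961079539928056, v32),
    (113649184066604186555, v33),
    (65762008755061, v34),
    (26964361683, v35),
    (47619769, v36),
    (-760, v37),
    (1, v38)]
    (List.forall_mem_cons.2 ⟨gc0, List.forall_mem_cons.2 ⟨gc1, List.forall_mem_cons.2 ⟨gc2, List.forall_mem_cons.2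
    ⟨gc3, List.forall_mem_cons.2 ⟨gc4, List.forall_mem_cons.2 ⟨gc5, List.forall_mem_cons.2 ⟨gc6,
    List.forall_mem_cons.2 ⟨gc7, List.forall_mem_cons.2 ⟨gc8, List.forall_mem_cons.2 ⟨gc9, List.forall_mem_cons.2
    ⟨gc10, List.forall_mem_cons.2 ⟨gc11, List.forall_mem_cons.2 ⟨gc12, List.forall_mem_cons.2 ⟨gc13,
    List.forall_mem_cons.2 ⟨gc14, List.forall_mem_cons.2 ⟨gc15, List.forall_mem_cons.2 ⟨gc16,
    List.forall_mem_cons.2 ⟨gc17, List.forall_mem_cons.2 ⟨gc18, List.forall_mem_cons.2 ⟨gc19,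
    List.forall_mem_cons.2 ⟨gc20, List.forall_mem_cons.2 ⟨gc21, List.forall_mem_cons.2 ⟨gc22,
    List.forall_mem_cons.2 ⟨gc23, List.forall_mem_cons.2 ⟨gc24, List.forall_mem_cons.2 ⟨gc25,
    List.forall_mem_cons.2 ⟨gc26, List.forall_mem_cons.2 ⟨gc27, List.forall_mem_cons.2 ⟨gc28,
    List.forall_mem_cons.2 ⟨gc29, List.forall_mem_cons.2 ⟨gc30, List.forall_mem_cons.2 ⟨gc31,
    List.forall_mem_cons.2 ⟨gc32, List.forall_mem_cons.2 ⟨gc33, List.forall_mem_cons.2 ⟨gc34,
    List.forall_mem_cons.2 ⟨gc35, List.forall_mem_cons.2 ⟨gc36, List.forall_mem_cons.2 ⟨gc37,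
    List.forall_mem_cons.2 ⟨gc38, fun _ h => absurd h List.not_mem_nil⟩⟩⟩⟩⟩⟩⟩⟩⟩⟩⟩⟩⟩⟩⟩⟩⟩⟩⟩⟩⟩⟩⟩⟩⟩⟩⟩⟩⟩⟩⟩⟩⟩⟩⟩⟩⟩⟩⟩) th1 (by ((try (rewrite [Cfsg.Agent.LsF.f56885f_0.2, Cfsg.Agent.LsF.f56885f_1.2, Cfsg.Agent.LsF.ineg_pat, Cfsg.Agent.LsF.getD_eq, Cfsg.Agent.LsF.instIDecEq_eq, Cfsg.Agent.LsF.decide_eq])); decide +kernel))

/-- the table of the irreducible character of degree 23751 -/
def th2 : List ℤ := [23751, 91, 71, -9, -1, 3, -1, 11, 1, 1, -1, 0, 1, 3, 1, 1, 1, -1, -1, 0, 0, 1, -1, -1, 1, 1, 0, 0]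

theorem gc_th2 : GC fam th2 := GC.lin fam_lt [
    (-138073856045406785278402286925597506028411093654981011609277143761277781235, v0),
    (401957426595450547690678304803425059920056172919611705552780231600301730932812, v1),
    (-96361579442650830154444616181665627435847765118124212662981394890865954028141, v2),
    (-3499482291774615979570548622194688195153763016187062831791239452688298857778, v3),
    (4472896882164654884196730068968491508025646619020534867336719553406372023, v4),
    (21852281469071256026785884717020613341052549622415615980035165979141154924, v5),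
    (-1722156878646691119493373379877640332958532931419006001852377539807682862379, v6),
    (-2957706521907686306179530821341994720729240264331662056061395918005022344, v7),
    (9959843460007385786975198934785862052670425786095498125480356407433464944, v8),
    (2370510740794556769012642897982963839787175408472545598776167417510188780, v9),
    (7592018853430876406117896305027416471293140606604451626575473814608471181, v10),
    (766950903757462623504013135249060417847785060630282888544743389852476972, v11),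
    (-402104847752451864940359891848719549714929740451608024578450837054228894150917, v12),
    (96230219974945745455812623690291858051436177202094228104244644765114607147228, v13),
    (342474270851873339515341390556119950658213743633049082563081687121450998883, v14),
    (6823860055771729118438773923049609585987550994959769423859560900190045360, v15),
    (-11957729496072248690887865801916228552315053471852951294390650846373240983, v16),
    (21852281469071256026785884717019804360511910455605724737109344788711367733, v17),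
    (30996197268502734851120318181228569411342352172005298755171966973043693900, v18),
    (1761357637272721652134402034929789896864061270070221904981347911274356061966, v19),
    (-11173019711026138093721828756784354750897376937306868047247765870055838352, v20),
    (-417555196025421640224096933963295629712091579450768190829382433510074071388, v21),
    (-67643342215619531538606840335855565867128372435809430200379290980363167608, v22),
    (804795282787384261430124526187233978503273909244599136305918066577930813, v23),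
    (3557858048349400195703467398193746628208861040702471152164146962915038448, v24),
    (-67158070126607605737484449901999491055013433993730717621250025068500740697, v25),
    (7775324990943147660629956922983469099255358504584683223077166205207057521, v26),
    (7682189392600817336483956276478563598167431245904241024624017875120262397, v27),
    (5596552604383705878992958118919857463993700528464229285181082905002855139, v28),
    (-2370510740794556769012642897982963839787175408472545598776167417510188780, v29),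
    (-4815378858427848668683070884410437216612, v30),
    (4426744923073952056262413166614552, v31),
    (-4541608359748772931690855540, v32),
    (-113649184075032564599, v33),
    (-65762008759938, v34),
    (-26964361685, v35),
    (-47619769, v36),
    (760, v37),
    (-1, v38)]
    (List.forall_mem_cons.2 ⟨gc0, List.forall_mem_cons.2 ⟨gc1, List.forall_mem_cons.2 ⟨gc2, List.forall_mem_cons.2
    ⟨gc3, List.forall_mem_cons.2 ⟨gc4, List.forall_mem_cons.2 ⟨gc5, List.forall_mem_cons.2 ⟨gc6,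
    List.forall_mem_cons.2 ⟨gc7, List.forall_mem_cons.2 ⟨gc8, List.forall_mem_cons.2 ⟨gc9, List.forall_mem_cons.2
    ⟨gc10, List.forall_mem_cons.2 ⟨gc11, List.forall_mem_cons.2 ⟨gc12, List.forall_mem_cons.2 ⟨gc13,
    List.forall_mem_cons.2 ⟨gc14, List.forall_mem_cons.2 ⟨gc15, List.forall_mem_cons.2 ⟨gc16,
    List.forall_mem_cons.2 ⟨gc17, List.forall_mem_cons.2 ⟨gc18, List.forall_mem_cons.2 ⟨gc19,
    List.forall_mem_cons.2 ⟨gc20, List.forall_mem_cons.2 ⟨gc21, List.forall_mem_cons.2 ⟨gc22,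
    List.forall_mem_cons.2 ⟨gc23, List.forall_mem_cons.2 ⟨gc24, List.forall_mem_cons.2 ⟨gc25,
    List.forall_mem_cons.2 ⟨gc26, List.forall_mem_cons.2 ⟨gc27, List.forall_mem_cons.2 ⟨gc28,
    List.forall_mem_cons.2 ⟨gc29, List.forall_mem_cons.2 ⟨gc30, List.forall_mem_cons.2 ⟨gc31,
    List.forall_mem_cons.2 ⟨gc32, List.forall_mem_cons.2 ⟨gc33, List.forall_mem_cons.2 ⟨gc34,
    List.forall_mem_cons.2 ⟨gc35, List.forall_mem_cons.2 ⟨gc36, List.forall_mem_cons.2 ⟨gc37,
    List.forall_mem_cons.2 ⟨gc38, fun _ h => absurd h List.not_mem_nil⟩⟩⟩⟩⟩⟩⟩⟩⟩⟩⟩⟩⟩⟩⟩⟩⟩⟩⟩⟩⟩⟩⟩⟩⟩⟩⟩⟩⟩⟩⟩⟩⟩⟩⟩⟩⟩⟩⟩) th2 (by ((try (rewrite [Cfsg.Agent.LsF.f56885f_0.2, Cfsg.Agent.LsF.f56885f_1.2, Cfsg.Agent.LsF.ineg_pat, Cfsg.Agent.LsF.getD_eq, Cfsg.Agent.LsF.instIDecEq_eq, Cfsg.Agent.LsF.decide_eq])); decide +kernel))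

theorem irr_of {v : List ℤ} (hv : GC fam v)
    (hs : ∑ i : Fin 36, ((145926144000 / (fm (rp i).i).c : ℕ) : ℤ) * (v.getD (rp i).i 0) ^ 2 = 145926144000)
    (h1 : 0 < v.getD 0 0) : IsIrrCharacter H (tv fam v) := by
  have := Fintype.ofFinite H
  refine GC.irr hv R nonconj cover (fun i => 145926144000 / (fm (rp i).i).c) card_cls (fun x y => fam_conj)
    (fun i => (rp i).i) fam_R ?_ ?_
  · rw [hs, card_H]
    rfl
  · rw [fam_one]
    exact h1

theorem irr_th1 : IsIrrCharacter H (tv fam th1) := irr_of gc_th1 (by decide +kernel) (by decide +kernel)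

theorem irr_th2 : IsIrrCharacter H (tv fam th2) := irr_of gc_th2 (by decide +kernel) (by decide +kernel)

end Cfsg.Agent.H300.Ru
end
end
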